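import Groth.Agent.Curves.K577.SemiRing
import Mathlib.AlgebraicGeometry.Noetherian
import Mathlib.AlgebraicGeometry.Morphisms.Affine

/-!
# Birational affine morphisms and birational ring extensions
-/

set_option autoImplicit false
universe u

open CategoryTheory AlgebraicGeometry TopologicalSpace

namespace K577.BirSch

open K577.SemiRing

section ring

variable {A B : Type u} [CommRing A] [CommRing B] [Algebra A B]

variable (A B) in
/-- `A_t → B_t` is bijective. -/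
structure LocIso (t : A) : Prop where
  surj : ∀ b : B, ∃ (n : ℕ) (a : A), algebraMap A B t ^ n * b = algebraMap A B a
  inj : ∀ a : A, algebraMap A B a = 0 → ∃ n : ℕ, t ^ n * a = 0

theorem LocIso.comap_mem_minimalPrimes {t : A} (h : LocIso A B t) {q : Ideal B}
    (hq : q ∈ minimalPrimes B) (htq : algebraMap A B t ∉ q) :
    q.comap (algebraMap A B) ∈ minimalPrimes A := by
  have hqp : q.IsPrime := hq.1.1
  refine ⟨⟨inferInstance, bot_le⟩, fun p' hp' hle => ?_⟩
  have hpr : p'.IsPrime := hp'.1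
  have htp : t ∉ p' := fun hcon => htq (hle hcon)
  have hcanc : ∀ (n : ℕ) (a : A), t ^ n * a ∈ p' → a ∈ p' := fun n a ha =>
    (hpr.mem_or_mem ha).resolve_left fun hcon => htp (hpr.mem_of_pow_mem n hcon)
  have hcanc' : ∀ (n : ℕ) (b : B), algebraMap A B t ^ n * b ∈ q → b ∈ q := fun n a ha =>
    (hqp.mem_or_mem ha).resolve_left fun hcon => htq (hqp.mem_of_pow_mem n hcon)
  have hker : ∀ a : A, algebraMap A B a = 0 → a ∈ p' := fun a ha => by
    obtain ⟨n, hn⟩ := h.inj a ha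
    exact hcanc n a (hn ▸ p'.zero_mem)
  let q' : Ideal B :=
    { carrier := {b | ∃ (n : ℕ) (a : A), a ∈ p' ∧ algebraMap A B t ^ n * b = algebraMap A B a}
      zero_mem' := ⟨0, 0, p'.zero_mem, by simp⟩
      add_mem' := by
        rintro x y ⟨n, a, ha, hx⟩ ⟨m, b, hb, hy⟩
        refine ⟨n + m, t ^ m * a + t ^ n * b,
          p'.add_mem (p'.mul_mem_left _ ha) (p'.mul_mem_left _ hb), ?_⟩
        simp only [map_add, map_mul, map_pow, ← hx, ← hy]
        ring
      smul_mem' := by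
        rintro c x ⟨n, a, ha, hx⟩
        obtain ⟨m, b, hb⟩ := h.surj c
        refine ⟨m + n, b * a, p'.mul_mem_left _ ha, ?_⟩
        rw [map_mul, ← hx, ← hb, smul_eq_mul]
        ring }
  have hq'mem : ∀ b, b ∈ q' ↔
      ∃ (n : ℕ) (a : A), a ∈ p' ∧ algebraMap A B t ^ n * b = algebraMap A B a := fun b => Iff.rfl
  have hkey : ∀ a : A, algebraMap A B a ∈ q' → a ∈ p' := by
    intro a ha
    obtain ⟨n, a', ha', h1⟩ := (hq'mem _).1 ha
    have h2 : t ^ n * a - a' ∈ p' := hker _ (by rw [map_sub, map_mul, map_pow, h1, sub_self])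
    have h3 : t ^ n * a ∈ p' := by
      have := p'.add_mem h2 ha'
      rwa [sub_add_cancel] at this
    exact hcanc n a h3
  have hle' : q' ≤ q := by
    intro b hb
    obtain ⟨n, a, ha, h1⟩ := (hq'mem _).1 hb
    exact hcanc' n b (h1 ▸ hle ha)
  have hq'prime : q'.IsPrime := by
    refine ⟨fun hcon => hqp.ne_top (top_le_iff.1 (hcon ▸ hle')), ?_⟩
    intro x y hxy
    obtain ⟨n, a, ha, h1⟩ := (hq'mem _).1 hxy
    obtain ⟨m, c, hc⟩ := h.surj x
    obtain ⟨k, d, hd⟩ := h.surj y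
    have h2 : t ^ n * (c * d) - t ^ (m + k) * a ∈ p' := hker _ (by
      simp only [map_sub, map_mul, map_pow, ← hc, ← hd, ← h1]
      ring)
    have h3 : t ^ n * (c * d) ∈ p' := by
      have := p'.add_mem h2 (p'.mul_mem_left (t ^ (m + k)) ha)
      rwa [sub_add_cancel] at this
    rcases hpr.mem_or_mem (hcanc _ _ h3) with h4 | h4
    · exact Or.inl ⟨m, c, h4, hc⟩
    · exact Or.inr ⟨k, d, h4, hd⟩
  intro a ha
  exact hkey a (hq.2 ⟨hq'prime, bot_le⟩ hle' ha)

theorem bir_of_locIso [IsReduced A] (T : Set A) (hT : ∀ t ∈ T, LocIso A B t)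
    (h1 : ∀ p ∈ minimalPrimes A, ∃ t ∈ T, t ∉ p)
    (h2 : ∀ q ∈ minimalPrimes B, ∃ t ∈ T, algebraMap A B t ∉ q) : Bir A B := by
  refine ⟨?_, ?_, ?_⟩
  · rw [injective_iff_map_eq_zero]
    intro a ha
    have : a ∈ nilradical A := by
      rw [nilradical, Ideal.radical_eq_sInf, Ideal.mem_sInf]
      intro p hp
      have hpp := hp.2
      obtain ⟨p₀, hp₀, hle⟩ := Ideal.exists_minimalPrimes_le (I := (⊥ : Ideal A)) (J := p) bot_le
      obtain ⟨t, ht, htp⟩ := h1 p₀ hp₀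
      obtain ⟨n, hn⟩ := (hT t ht).inj a ha
      exact hle ((hp₀.1.1.mem_or_mem (hn ▸ p₀.zero_mem)).resolve_left
        fun h => htp (hp₀.1.1.mem_of_pow_mem n h))
    exact (mem_nilradical.1 this).eq_zero
  · intro p hp b
    obtain ⟨t, ht, htp⟩ := h1 p hp
    obtain ⟨n, a, hn⟩ := (hT t ht).surj b
    refine ⟨t ^ n, fun h => htp (hp.1.1.mem_of_pow_mem n h), a, by rw [map_pow, hn]⟩
  · intro q hq
    obtain ⟨t, ht, htq⟩ := h2 q hq
    exact (hT t ht).comap_mem_minimalPrimes hq htq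

end ring

/-- Minimal primes of a Noetherian ring lie in every dense open. -/
theorem mem_of_dense {A : Type u} [CommRing A] [IsNoetherianRing A] {V : Set (PrimeSpectrum A)}
    (hV : IsOpen V) (hd : Dense V) (p : PrimeSpectrum A) (hp : p.asIdeal ∈ minimalPrimes A) :
    p ∈ V := by
  have hirr : PrimeSpectrum.zeroLocus (p.asIdeal : Set A) ∈
      irreducibleComponents (PrimeSpectrum A) := by
    rw [← PrimeSpectrum.zeroLocus_minimalPrimes]
    exact ⟨_, hp, rfl⟩
  obtain ⟨o, ho, hne, hoZ⟩ :=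
    TopologicalSpace.NoetherianSpace.exists_isOpen_nonempty_subset_irreducibleComponent _ hirr
  obtain ⟨y, hyo, hyV⟩ := hd.inter_open_nonempty _ ho hne
  have h1 : p ⤳ y := (PrimeSpectrum.le_iff_specializes p y).1 (hoZ hyo)
  exact h1.mem_open hV hyV

/-- Minimal primes of the ring of an affine open lie in every dense open. -/
theorem fromSpec_mem_of_dense {X : Scheme.{u}} {U : X.Opens}
    (hU : IsAffineOpen U) [IsNoetherianRing Γ(X, U)] (V : X.Opens) (hd : Dense (V : Set X))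
    (p : PrimeSpectrum Γ(X, U)) (hp : p.asIdeal ∈ minimalPrimes Γ(X, U)) : hU.fromSpec p ∈ V :=
  mem_of_dense (V := hU.fromSpec ⁻¹' V) (V.2.preimage hU.fromSpec.continuous)
    (hd.preimage hU.fromSpec.isOpenEmbedding.isOpenMap) p hp

/-- A basic open around a minimal prime inside a dense open. -/
theorem exists_basicOpen_le {X : Scheme.{u}} {U : X.Opens}
    (hU : IsAffineOpen U) (V : X.Opens) (p : PrimeSpectrum Γ(X, U)) (hp : hU.fromSpec p ∈ V) :
    ∃ t : Γ(X, U), X.basicOpen t ≤ V ∧ t ∉ p.asIdeal := by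
  have hpU : hU.fromSpec p ∈ U := by
    have : hU.fromSpec p ∈ (U : Set X) := by
      rw [← hU.range_fromSpec]
      exact ⟨p, rfl⟩
    exact this
  obtain ⟨t, ht, hpt⟩ := hU.exists_basicOpen_le (V := V) ⟨hU.fromSpec p, hp⟩ hpU
  refine ⟨t, ht, ?_⟩
  have h1 : p ∈ hU.fromSpec ⁻¹ᵁ X.basicOpen t := hpt
  rw [hU.fromSpec_preimage_basicOpen] at h1
  exact h1

/-- `g.app W` is bijective for `W` inside an open over which `g` is an isomorphism. -/
theorem app_bijective {X Z : Scheme.{u}} (g : Z ⟶ X) (V : X.Opens) [IsIso (g ∣_ V)] (W : X.Opens)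
    (hW : W ≤ V) : Function.Bijective (g.app W) := by
  have h1 := morphismRestrict_app g V (V.ι ⁻¹ᵁ W)
  have h2 : V.ι ''ᵁ V.ι ⁻¹ᵁ W = W := by
    simpa [Scheme.Hom.image_preimage_eq_opensRange_inf] using hW
  have h3 : IsIso (g.app (V.ι ''ᵁ V.ι ⁻¹ᵁ W)) := by
    have : IsIso ((g ∣_ V).app (V.ι ⁻¹ᵁ W)) := inferInstance
    rw [h1] at this
    have h4 : IsIso (Z.presheaf.map (eqToHom (image_morphismRestrict_preimage g V (V.ι ⁻¹ᵁ W))).op) :=
      inferInstance
    exact @IsIso.of_isIso_comp_right _ _ _ _ _ _ _ h4 this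
  rw [h2] at h3
  exact ConcreteCategory.bijective_of_isIso (g.app W)

theorem basicOpen_app {X Y : Scheme.{u}} (ν : Y ⟶ X) (U : X.Opens) (t : Γ(X, U)) :
    ν ⁻¹ᵁ (X.basicOpen t) = Y.basicOpen (ν.app U t) :=
  Scheme.preimage_basicOpen ν t

theorem locIso_app {X Y : Scheme.{u}} (ν : Y ⟶ X) [IsAffineHom ν] {U : X.Opens}
    (hU : IsAffineOpen U) (V : X.Opens) [IsIso (ν ∣_ V)] (t : Γ(X, U)) (ht : X.basicOpen t ≤ V) :
    letI := (ν.app U).hom.toAlgebra
    LocIso Γ(X, U) Γ(Y, ν ⁻¹ᵁ U) t := by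
  let := (ν.app U).hom.toAlgebra
  have hbij := app_bijective ν V (X.basicOpen t) ht
  have hle : X.basicOpen t ≤ U := X.basicOpen_le t
  have hle' : ν ⁻¹ᵁ X.basicOpen t ≤ ν ⁻¹ᵁ U := fun x hx => hle hx
  -- restriction maps
  have key1 := hU.isLocalization_basicOpen t
  have key2 : ∀ b : Γ(Y, ν ⁻¹ᵁ U), Y.presheaf.map (homOfLE hle').op b = 0 →
      ∃ n : ℕ, (ν.app U t) ^ n * b = 0 := by
    intro b hb
    have h3 := (hU.preimage ν).isLocalization_basicOpen (ν.app U t)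
    have h4 : Y.basicOpen (ν.app U t) = ν ⁻¹ᵁ X.basicOpen t := (basicOpen_app ν U t).symm
    have h5 : Y.presheaf.map (homOfLE (Y.basicOpen_le (ν.app U t))).op b = 0 := by
      have : (homOfLE (Y.basicOpen_le (ν.app U t))).op = (homOfLE hle').op ≫ (homOfLE h4.le).op := rfl
      rw [this, Y.presheaf.map_comp]
      change Y.presheaf.map (homOfLE h4.le).op (Y.presheaf.map (homOfLE hle').op b) = 0
      rw [hb, map_zero]
    obtain ⟨⟨_, n, rfl⟩, hn⟩ := (IsLocalization.map_eq_zero_iff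
      (Submonoid.powers (ν.app U t)) Γ(Y, Y.basicOpen (ν.app U t)) b).1 h5
    exact ⟨n, hn⟩
  have hnat : ∀ a : Γ(X, U), Y.presheaf.map (homOfLE hle').op (ν.app U a) =
      ν.app (X.basicOpen t) (X.presheaf.map (homOfLE hle).op a) := by
    intro a
    have := ν.naturality (homOfLE hle).op
    exact (congrArg (fun f => f a) this).symm
  refine ⟨fun b => ?_, fun a ha => ?_⟩
  · obtain ⟨c, hc⟩ := hbij.2 (Y.presheaf.map (homOfLE hle').op b)
    obtain ⟨⟨a, ⟨_, n, rfl⟩⟩, hn⟩ := IsLocalization.surj (Submonoid.powers t) c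
    have hn' : c * X.presheaf.map (homOfLE hle).op (t ^ n) = X.presheaf.map (homOfLE hle).op a := hn
    have h6 : Y.presheaf.map (homOfLE hle').op (ν.app U t ^ n * b - ν.app U a) = 0 := by
      rw [map_sub, map_mul, ← hc, hnat, ← hn', map_mul, ← hnat, map_pow, map_pow, map_pow,
        mul_comm, sub_self]
    obtain ⟨m, hm⟩ := key2 _ h6
    refine ⟨m + n, t ^ m * a, ?_⟩
    rw [mul_sub, sub_eq_zero, ← mul_assoc, ← pow_add] at hm
    rw [map_mul, map_pow]
    exact hm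
  · have h7 : X.presheaf.map (homOfLE hle).op a = 0 := by
      apply hbij.1
      rw [map_zero, ← hnat]
      exact (congrArg _ ha).trans (map_zero _)
    obtain ⟨⟨_, n, rfl⟩, hn⟩ := (IsLocalization.map_eq_zero_iff
      (Submonoid.powers t) Γ(X, X.basicOpen t) a).1 h7
    exact ⟨n, hn⟩

theorem fromSpec_apply {X Y : Scheme.{u}} (ν : Y ⟶ X) [IsAffineHom ν] {U : X.Opens}
    (hU : IsAffineOpen U) (y : Spec Γ(Y, ν ⁻¹ᵁ U)) :
    ν ((hU.preimage ν).fromSpec y) = hU.fromSpec (Spec.map (ν.app U) y) := by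
  rw [← Scheme.Hom.comp_apply, ← Scheme.Hom.comp_apply, Scheme.Hom.app_eq_appLE,
    IsAffineOpen.SpecMap_appLE_fromSpec ν hU (hU.preimage ν) le_rfl]

/-- A birational affine morphism of Noetherian schemes is birational on affine opens. -/
theorem bir_app {X Y : Scheme.{u}} (ν : Y ⟶ X) [IsAffineHom ν] {U : X.Opens}
    (hU : IsAffineOpen U) [IsReduced X] [IsNoetherianRing Γ(X, U)]
    [IsNoetherianRing Γ(Y, ν ⁻¹ᵁ U)]
    (V : X.Opens) [IsIso (ν ∣_ V)] (hV : Dense (V : Set X))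
    (hV' : Dense ((ν ⁻¹ᵁ V : Y.Opens) : Set Y)) :
    letI := (ν.app U).hom.toAlgebra
    Bir Γ(X, U) Γ(Y, ν ⁻¹ᵁ U) := by
  let := (ν.app U).hom.toAlgebra
  refine bir_of_locIso {t | X.basicOpen t ≤ V} (fun t ht => locIso_app ν hU V t ht) ?_ ?_
  · intro p hp
    exact exists_basicOpen_le hU V ⟨p, hp.1.1⟩ (fromSpec_mem_of_dense hU V hV ⟨p, hp.1.1⟩ hp)
  · intro q hq
    have hq1 : q.IsPrime := hq.1.1
    have h1 := fromSpec_mem_of_dense (hU.preimage ν) (ν ⁻¹ᵁ V) hV' ⟨q, hq1⟩ hq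
    have h2 := fromSpec_apply ν hU ⟨q, hq1⟩
    have h3 : hU.fromSpec (Spec.map (ν.app U) ⟨q, hq1⟩) ∈ V := by
      rw [← h2]
      exact h1
    obtain ⟨t, ht, htq⟩ := exists_basicOpen_le hU V _ h3
    exact ⟨t, ht, fun hcon => htq hcon⟩

end K577.BirSch
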