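import Mathlib.CategoryTheory.ComposableArrows.Basic
import Mathlib.CategoryTheory.MorphismProperty.Basic

/-!
# Chains of morphisms
-/

set_option autoImplicit false
universe v u

open CategoryTheory

namespace K577.Chain

variable {C : Type u} [Category.{v} C]

/-- Composites of morphisms satisfying `R`, up to an isomorphism on the right. -/
inductive Comp (R : MorphismProperty C) : ∀ {X Y : C}, (X ⟶ Y) → Prop
  | iso {X Y : C} (e : X ≅ Y) : Comp R e.hom
  | cons {X Y Z : C} (f : X ⟶ Y) (g : Y ⟶ Z) : R f → Comp R g → Comp R (f ≫ g)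

theorem exists_composable_aux {R : MorphismProperty C} {X Y : C} {f : X ⟶ Y} (h : Comp R f) :
    ∃ (n : ℕ) (F : ComposableArrows C n) (h0 : F.left = X) (e' : F.right ≅ Y),
      eqToHom h0.symm ≫ F.hom ≫ e'.hom = f ∧
      ∀ i : Fin n, R (F.map (homOfLE (Fin.castSucc_lt_succ (i := i)).le)) := by
  induction h with
  | @iso X Y e =>
    refine ⟨0, ComposableArrows.mk₀ X, rfl, e, ?_, fun i => i.elim0⟩
    change 𝟙 X ≫ 𝟙 X ≫ e.hom = e.hom
    rw [Category.id_comp, Category.id_comp]
  | @cons X Y Z f g hf _ ih =>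
    obtain ⟨n, F, rfl, e', rfl, hF⟩ := ih
    refine ⟨n + 1, F.precomp f, rfl, e', ?_, ?_⟩
    · have : (F.precomp f).hom = f ≫ F.hom := by
        cases n with
        | zero =>
          have h1 : F.hom = 𝟙 _ := F.map_id 0
          rw [h1]
          exact (Category.comp_id f).symm
        | succ n => rfl
      change 𝟙 X ≫ (F.precomp f).hom ≫ e'.hom = f ≫ 𝟙 _ ≫ F.hom ≫ e'.hom
      rw [this, Category.id_comp, Category.id_comp]
      exact Category.assoc _ _ _
    · intro i
      refine Fin.cases ?_ (fun j => ?_) i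
      · exact hf
      · exact hF j

theorem exists_composable {R : MorphismProperty C} {X Y : C} {f : X ⟶ Y} (h : Comp R f) :
    ∃ (n : ℕ) (F : ComposableArrows C n) (e : F.left ≅ X) (e' : F.right ≅ Y),
      e.inv ≫ F.hom ≫ e'.hom = f ∧
      ∀ i : Fin n, R (F.map (homOfLE (Fin.castSucc_lt_succ (i := i)).le)) := by
  obtain ⟨n, F, h0, e', h1, h2⟩ := exists_composable_aux h
  exact ⟨n, F, eqToIso h0, e', h1, h2⟩

end K577.Chain
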