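import Mathlib.Topology.KrullDimension
import Mathlib.AlgebraicGeometry.AffineScheme
import Mathlib.RingTheory.Ideal.Height
import Mathlib.RingTheory.Spectrum.Prime.Topology

/-!
# Krull dimension and irreducible components
-/

set_option autoImplicit false
universe u

open TopologicalSpace AlgebraicGeometry CategoryTheory

namespace K577.DimComp

theorem isIrreducible_preimage {T : Type*} [TopologicalSpace T] {W S : Set T} (hS : IsIrreducible S)
    (hSW : S ⊆ W) : IsIrreducible (Subtype.val ⁻¹' S : Set W) := by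
  constructor
  · obtain ⟨x, hx⟩ := hS.1
    exact ⟨⟨x, hSW hx⟩, hx⟩
  · rintro _ _ ⟨u, hu, rfl⟩ ⟨v, hv, rfl⟩ ⟨x, hx, hxu⟩ ⟨y, hy, hyv⟩
    obtain ⟨z, hz, hzu, hzv⟩ := hS.2 u v hu hv ⟨x, hx, hxu⟩ ⟨y, hy, hyv⟩
    exact ⟨⟨z, hSW hz⟩, hz, hzu, hzv⟩

theorem topologicalKrullDim_le {T : Type*} [TopologicalSpace T] (n : WithBot ℕ∞)
    (h : ∀ W ∈ irreducibleComponents T, topologicalKrullDim W ≤ n) : topologicalKrullDim T ≤ n := by
  refine iSup_le fun p => ?_
  obtain ⟨W, hW, hpW⟩ := exists_mem_irreducibleComponents_subset_of_isIrreducible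
    (p.last : Set T) p.last.isIrreducible
  have hle : ∀ i, (p i : Set T) ⊆ W := fun i => Set.Subset.trans (p.monotone (Fin.le_last i)) hpW
  let q : LTSeries (IrreducibleCloseds W) :=
    { length := p.length
      toFun := fun i => ⟨Subtype.val ⁻¹' (p i : Set T), isIrreducible_preimage (p i).isIrreducible
        (hle i), (p i).isClosed.preimage continuous_subtype_val⟩
      step := fun i => by
        have h1 : (p i.castSucc : Set T) ⊂ (p i.succ : Set T) := p.step i
        refine ⟨fun x hx => h1.1 hx, fun hcon => h1.2 fun x hx => ?_⟩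
        exact @hcon ⟨x, hle _ hx⟩ hx }
  exact (le_iSup (fun q : LTSeries (IrreducibleCloseds W) => ((q.length : ℕ∞) : WithBot ℕ∞)) q).trans
    (h W hW)

theorem ringKrullDim_le (X : Scheme.{u}) (n : WithBot ℕ∞)
    (h : ∀ W ∈ irreducibleComponents (X : Type u), topologicalKrullDim W ≤ n)
    {A : Type u} [CommRing A] (i : Spec (CommRingCat.of A) ⟶ X) [IsOpenImmersion i] :
    ringKrullDim A ≤ n := by
  rw [← PrimeSpectrum.topologicalKrullDim_eq_ringKrullDim]
  exact (Topology.IsInducing.topologicalKrullDim_le (f := i) i.isOpenEmbedding.isInducing).trans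
    (topologicalKrullDim_le n h)

end K577.DimComp
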