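import Groth.Agent.Curves.K577.StepMeas
import Groth.Agent.HTop.K348.RFI
import Mathlib.Algebra.DualNumber

/-!
# Simple steps which are universal homeomorphisms with trivial residue field extensions
-/

set_option autoImplicit false
universe u

open CategoryTheory CategoryTheory.Limits AlgebraicGeometry TopologicalSpace

namespace K577.DualStep

open K577.StepMeas

theorem exists_dual {k A : Type u} [Field k] [CommRing A] [Algebra k A]
    [IsSimpleOrder (Subalgebra k A)] (σ : A →+* k) (hσ : ∀ c, σ (algebraMap k A c) = c)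
    (hnil : ∀ a, σ a = 0 → IsNilpotent a) : Nonempty (DualNumber k ≃ₐ[k] A) := by
  classical
  obtain ⟨e, he0, hσe⟩ : ∃ e : A, e ≠ 0 ∧ σ e = 0 := by
    by_contra hcon
    push Not at hcon
    refine bot_ne_top (α := Subalgebra k A) (eq_top_iff.2 fun a _ => ?_)
    refine Algebra.mem_bot.2 ⟨σ a, ?_⟩
    by_contra hne
    exact hcon (a - algebraMap k A (σ a)) (fun h => hne (sub_eq_zero.1 h).symm)
      (by rw [map_sub, hσ, sub_self])
  have hex := hnil e hσe
  obtain ⟨e', he'0, hσe', hsq⟩ : ∃ e' : A, e' ≠ 0 ∧ σ e' = 0 ∧ e' * e' = 0 := by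
    have h0 : Nat.find hex ≠ 0 := fun h => by
      have h1 := Nat.find_spec hex
      rw [h, pow_zero] at h1
      exact he0 (by rw [← mul_one e, h1, mul_zero])
    have h1 : Nat.find hex ≠ 1 := fun h => by
      have h1 := Nat.find_spec hex
      rw [h, pow_one] at h1
      exact he0 h1
    obtain ⟨m, hm⟩ : ∃ m, Nat.find hex = m + 2 := ⟨Nat.find hex - 2, by omega⟩
    refine ⟨e ^ (m + 1), Nat.find_min hex (by omega), ?_, ?_⟩
    · rw [map_pow, hσe, zero_pow (Nat.succ_ne_zero _)]
    · have h2 := Nat.find_spec hex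
      rw [hm] at h2
      rw [← pow_add, show m + 1 + (m + 1) = m + 2 + m by ring, pow_add, h2, zero_mul]
  let l : DualNumber k →ₐ[k] A := DualNumber.lift ⟨(Algebra.ofId k A, e'), hsq, fun _ =>
    Commute.all _ _⟩
  have hl : ∀ x : DualNumber k, l x = algebraMap k A x.fst + algebraMap k A x.snd * e' := by
    intro x
    exact DualNumber.lift_apply_apply _ _
  have hinj : Function.Injective l := by
    rw [injective_iff_map_eq_zero]
    intro x hx
    rw [hl] at hx
    have h1 : x.fst = 0 := by
      have := congrArg σ hx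
      rwa [map_add, map_mul, hσ, hσe', mul_zero, add_zero, map_zero] at this
    rw [h1, map_zero, zero_add] at hx
    have h2 : x.snd = 0 := by
      by_contra h2
      refine he'0 ?_
      have h3 : algebraMap k A (x.snd)⁻¹ * (algebraMap k A x.snd * e') = 0 := by
        rw [hx, mul_zero]
      rwa [← mul_assoc, ← map_mul, inv_mul_cancel₀ h2, map_one, one_mul] at h3
    exact TrivSqZeroExt.ext h1 h2
  have hsurj : Function.Surjective l := by
    rw [← AlgHom.range_eq_top]
    refine (eq_bot_or_eq_top _).resolve_left fun h => ?_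
    have h1 : e' ∈ l.range := ⟨DualNumber.eps, by
      rw [AlgHom.toRingHom_eq_coe, RingHom.coe_coe, hl]
      simp⟩
    rw [h] at h1
    obtain ⟨c, hc⟩ := Algebra.mem_bot.1 h1
    have h2 : c = 0 := by
      rw [← hσ c, hc, hσe']
    rw [h2, map_zero] at hc
    exact he'0 hc.symm
  exact ⟨AlgEquiv.ofBijective l ⟨hinj, hsurj⟩⟩

open K348.RFI

/-- Push-outs along dual numbers at closed points. -/
def StepD : MorphismProperty Scheme.{u} := fun X Y f =>
  ∃ (x : Y) (_ : IsClosed ({x} : Set Y))
    (j : Spec (CommRingCat.of (DualNumber (Y.residueField x))) ⟶ X), IsClosedImmersion j ∧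
    IsPushout j (Spec.map (CommRingCat.ofHom (algebraMap (Y.residueField x)
      (DualNumber (Y.residueField x))))) f (Y.fromSpecResidueField x)

theorem stepD_of_kbij {X Y : Scheme.{u}} {f : X ⟶ Y} (hf : KBij f) (h : StepC f) : StepD f := by
  obtain ⟨x, hx, A, _, _, hs, j, hj, hpo, hpb⟩ := h
  have hk : KBij (Spec.map (CommRingCat.ofHom (algebraMap (Y.residueField x) A))) :=
    KBij.of_isPullback hpb hf
  obtain ⟨s, hs1⟩ := (hk (Y.residueField x)).2 (𝟙 _)
  have hs2 : s ≫ Spec.map (CommRingCat.ofHom (algebraMap (Y.residueField x) A)) = 𝟙 _ := hs1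
  obtain ⟨σ, rfl⟩ := Spec.map_surjective s
  have hσ : ∀ c, σ.hom (algebraMap (Y.residueField x) A c) = c := by
    intro c
    rw [← Spec.map_comp, ← Spec.map_id, Spec.map_inj] at hs2
    exact congrArg (fun f => f.hom c) hs2
  have hnil : ∀ a : A, σ.hom a = 0 → IsNilpotent a := by
    intro a ha
    have hui := hk.universallyInjective
    have hinj := (Spec.map (CommRingCat.ofHom (algebraMap (Y.residueField x) A))).injective
    rw [← mem_nilradical, nilradical, Ideal.radical_eq_sInf, Ideal.mem_sInf]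
    rintro P ⟨-, hP⟩
    have h1 : (⟨P, hP⟩ : PrimeSpectrum A) = Spec.map σ (⊥ : PrimeSpectrum (Y.residueField x)) :=
      hinj (Subsingleton.elim (α := PrimeSpectrum (Y.residueField x)) _ _)
    have h2 : P = RingHom.ker σ.hom := congrArg PrimeSpectrum.asIdeal h1
    rw [h2]
    exact ha
  obtain ⟨θ⟩ := exists_dual (k := Y.residueField x) (A := A) σ.hom hσ hnil
  let e : Spec (CommRingCat.of (DualNumber (Y.residueField x))) ≅ Spec (CommRingCat.of A) :=
    Scheme.Spec.mapIso (θ.symm.toRingEquiv.toCommRingCatIso).op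
  refine ⟨x, hx, e.hom ≫ j, inferInstance, ?_⟩
  refine IsPushout.of_iso hpo e.symm (Iso.refl _) (Iso.refl _) (Iso.refl _) ?_ ?_ ?_ ?_
  · simp
  · have h1 : e.inv = Spec.map (CommRingCat.ofHom (θ : DualNumber (Y.residueField x) →+* A)) := rfl
    rw [Iso.refl_hom, Category.comp_id, Iso.symm_hom, h1, ← Spec.map_comp, ← CommRingCat.ofHom_comp]
    congr 2
    ext c
    exact (θ.commutes c).symm
  · simp
  · simp

theorem surjective_of_injective_app {X Y : Scheme.{u}} (a : X ⟶ Y) [IsFinite a]
    (hinj : ∀ O, Function.Injective (a.app O)) : Surjective a := by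
  have h1 : a.ker = ⊥ := by
    apply Scheme.IdealSheafData.ext
    ext1 U
    rw [Scheme.Hom.ker_apply, Scheme.IdealSheafData.ideal_bot]
    exact (RingHom.injective_iff_ker_eq_bot _).1 (hinj U)
  have h2 : IsSchemeTheoreticallyDominant a := ⟨h1⟩
  have h3 : IsDominant a := inferInstance
  refine ⟨fun y => ?_⟩
  have h4 : y ∈ closure (Set.range a) := h3.denseRange y
  rwa [a.isClosedMap.isClosed_range.closure_eq] at h4

theorem props_of_comp {X X₁ X' : Scheme.{u}} (a : X ⟶ X₁) (φ : X₁ ⟶ X') [IsFinite φ]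
    [IsFinite (a ≫ φ)] (ha : StepC a) (hinj : ∀ O, Function.Injective (a.app O))
    (hk : KBij (a ≫ φ)) : StepD a ∧ KBij φ := by
  have h1 : IsFinite a := IsFinite.of_comp a φ
  have h2 : Surjective a := surjective_of_injective_app a hinj
  have h3 : UniversallyInjective a := by
    have h1' : UniversallyInjective a ↔
      ∀ (K : Type u) [Field K], Function.Injective (fun s : Spec (.of K) ⟶ X ↦ s ≫ a) :=
      (tfae_universallyInjective a).out 0 1
    refine h1'.mpr fun K _ s t hst => (hk K).1 ?_
    have hst : s ≫ a = t ≫ a := hst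
    change s ≫ a ≫ φ = t ≫ a ≫ φ
    rw [← Category.assoc, hst, Category.assoc]
  have h4 : HTop.ResidueFieldsIso a := by
    intro x
    have h5 := hk.residueFieldsIso x
    have h6 := isIso_of_comp a φ x h5
    rw [Scheme.residueFieldMap_comp] at h5
    exact @IsIso.of_isIso_comp_left _ _ _ _ _ (φ.residueFieldMap (a x)) (a.residueFieldMap x) h6 h5
  have h5 : KBij a := .of_residueFieldsIso h3 h2 h4
  exact ⟨stepD_of_kbij h5 ha, KBij.of_comp' hk h5⟩

end K577.DualStep
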