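import Groth.Agent.Curves.K577.MinExt
import Groth.Agent.Pinch.K838.Ferr
import Mathlib.AlgebraicGeometry.Morphisms.Finite
import Mathlib.AlgebraicGeometry.Morphisms.SchemeTheoreticallyDominant
import Mathlib.AlgebraicGeometry.ResidueField
import Mathlib.AlgebraicGeometry.Noetherian

/-!
# One step of the pinching of a curve
-/

set_option autoImplicit false
universe u

open CategoryTheory CategoryTheory.Limits AlgebraicGeometry TopologicalSpace

namespace K577.FerrStep

theorem isClosed_fromSpec {X : Scheme.{u}} [JacobsonSpace X] {W : X.Opens} (hW : IsAffineOpen W)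
    (m : PrimeSpectrum Γ(X, W)) (hm : m.asIdeal.IsMaximal) : IsClosed {hW.fromSpec m} := by
  have h1 := hW.fromSpec.isOpenEmbedding.preimage_closedPoints
  have h2 : m ∈ closedPoints (PrimeSpectrum Γ(X, W)) :=
    (PrimeSpectrum.isClosed_singleton_iff_isMaximal m).2 hm
  have h3 : m ∈ hW.fromSpec ⁻¹' closedPoints X := by
    rw [h1]
    exact h2
  exact h3

/-- Finite points are finite. -/
theorem isFinite_of_field {X : Scheme.{u}} [JacobsonSpace X] {W : X.Opens} (hW : IsAffineOpen W)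
    {k : Type u} [Field k] (f : Γ(X, W) →+* k) (hf : f.Finite) :
    IsFinite (Spec.map (CommRingCat.ofHom f) ≫ hW.fromSpec) := by
  have hm : (RingHom.ker f).IsMaximal := by
    let _ := f.toAlgebra
    have : Algebra.IsIntegral Γ(X, W) k := ⟨hf.to_isIntegral⟩
    exact Ideal.isMaximal_comap_of_isIntegral_of_isMaximal (R := Γ(X, W)) (S := k) ⊥
  let c := Spec.map (CommRingCat.ofHom (Ideal.Quotient.mk (RingHom.ker f))) ≫ hW.fromSpec
  have hc0 : IsClosedImmersion (Spec.map (CommRingCat.ofHom (Ideal.Quotient.mk (RingHom.ker f)))) :=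
    IsClosedImmersion.spec_of_surjective _ Ideal.Quotient.mk_surjective
  have hc1 : IsPreimmersion c := inferInstance
  have hrange : Set.range c = {hW.fromSpec ⟨RingHom.ker f, hm.isPrime⟩} := by
    have key : ∀ z, c z = hW.fromSpec ⟨RingHom.ker f, hm.isPrime⟩ := by
      intro z
      change hW.fromSpec (Spec.map (CommRingCat.ofHom (Ideal.Quotient.mk (RingHom.ker f))) z) = _
      congr 1
      apply PrimeSpectrum.ext
      symm
      refine hm.eq_of_le ((Spec.map (CommRingCat.ofHom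
        (Ideal.Quotient.mk (RingHom.ker f))) z).2.ne_top) ?_
      intro a ha
      have h1 : Ideal.Quotient.mk (RingHom.ker f) a ∈ z.asIdeal := by
        rw [Ideal.Quotient.eq_zero_iff_mem.2 ha]
        exact Ideal.zero_mem _
      exact h1
    have : Nontrivial (Γ(X, W) ⧸ RingHom.ker f) := Ideal.Quotient.nontrivial_iff.2 hm.ne_top
    obtain ⟨z₀⟩ : Nonempty (PrimeSpectrum (Γ(X, W) ⧸ RingHom.ker f)) := inferInstance
    ext x
    constructor
    · rintro ⟨z, rfl⟩
      exact key z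
    · rintro rfl
      exact ⟨z₀, key z₀⟩
  have hc : IsClosedImmersion c := IsClosedImmersion.of_isPreimmersion c (by
    rw [hrange]
    exact isClosed_fromSpec hW _ hm)
  have hfac : Spec.map (CommRingCat.ofHom f) ≫ hW.fromSpec =
      Spec.map (CommRingCat.ofHom (RingHom.kerLift f)) ≫ c := by
    simp only [c]
    rw [← Spec.map_comp_assoc, ← CommRingCat.ofHom_comp]
    rfl
  have hfin : IsFinite (Spec.map (CommRingCat.ofHom (RingHom.kerLift f))) := by
    rw [IsFinite.SpecMap_iff]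
    have : f = (RingHom.kerLift f).comp (Ideal.Quotient.mk (RingHom.ker f)) := rfl
    rw [this] at hf
    exact RingHom.Finite.of_comp_finite hf
  rw [hfac]
  infer_instance

open K838.Ferr

/-- Factorization through the Ferrand pushout. -/
theorem exists_factor {X Y Z X' : Scheme.{u}} (i : Z ⟶ X) (j : Z ⟶ Y) (β : X ⟶ X')
    (b₀ : Y ⟶ X') (w : i ≫ β = j ≫ b₀) [IsClosedImmersion i] [IsFinite β] [IsAffineHom b₀]
    [IsLocallyNoetherian X'] (hj : ∀ V, Function.Injective (j.app V)) :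
    ∃ (X₁ : Scheme.{u}) (a : X ⟶ X₁) (b : Y ⟶ X₁) (φ : X₁ ⟶ X'),
      a ≫ φ = β ∧ b ≫ φ = b₀ ∧ IsPushout i j a b ∧ IsPullback i j a b ∧ IsClosedImmersion b ∧
      IsAffineHom a ∧ IsFinite φ ∧ ∀ O, Function.Injective (a.app O) := by
  obtain ⟨X₁, a, b, h1, h2, h3, h4, h5, h6, h7⟩ := exists_isFerr (Adapted.of_affine w)
  obtain ⟨φ, ea, eb⟩ : ∃ φ : X₁ ⟶ X', a ≫ φ = β ∧ b ≫ φ = b₀ :=
    ⟨h1.desc β b₀ w, h1.inl_desc _ _ _, h1.inr_desc _ _ _⟩
  have hopens : ∀ {O O' : X₁.Opens}, a ⁻¹ᵁ O = a ⁻¹ᵁ O' → b ⁻¹ᵁ O = b ⁻¹ᵁ O' → O = O' := by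
    intro O O' h1 h2
    ext w
    rcases h6 w with ⟨x, rfl⟩ | ⟨y, rfl⟩
    · exact Set.ext_iff.mp (congrArg (fun V : X.Opens => (V : Set X)) h1) x
    · exact Set.ext_iff.mp (congrArg (fun V : Y.Opens => (V : Set Y)) h2) y
  have hφ : IsAffineHom φ := by
    refine ⟨fun O hO => ?_⟩
    obtain ⟨O', hO', e1, e2⟩ := h7 (β ⁻¹ᵁ O) (b₀ ⁻¹ᵁ O) (hO.preimage β) (hO.preimage b₀)
      (preimage_eq w O)
    have : φ ⁻¹ᵁ O = O' := by
      refine hopens ?_ ?_
      · rw [e1, ← Scheme.Hom.comp_preimage, ea]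
      · rw [e2, ← Scheme.Hom.comp_preimage, eb]
    rw [this]
    exact hO'
  have hinj : ∀ O, Function.Injective (a.app O) := by
    intro O r r' hr
    obtain ⟨hs1, hs2⟩ := (secSq_iff h1.w O).1 (h2.sec O)
    refine hs2 r r' hr ?_
    have hle := (preimage_eq h1.w O).le
    have hw := sec_w h1.w O hle
    have hinj' : Function.Injective (j.appLE (b ⁻¹ᵁ O) (i ⁻¹ᵁ a ⁻¹ᵁ O) hle) := by
      have : j.appLE (b ⁻¹ᵁ O) (i ⁻¹ᵁ a ⁻¹ᵁ O) hle = j.app (b ⁻¹ᵁ O) ≫
        Z.presheaf.map (eqToHom (preimage_eq h1.w O)).op := rfl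
      rw [this]
      intro s t hst
      refine hj _ ?_
      have hiso : Function.Injective (Z.presheaf.map (eqToHom (preimage_eq h1.w O)).op) :=
        (ConcreteCategory.bijective_of_isIso _).1
      exact hiso hst
    apply hinj'
    have e1 := congrArg (fun f => f r) hw
    have e2 := congrArg (fun f => f r') hw
    change i.app _ (a.app O r) = j.appLE _ _ _ (b.app O r) at e1
    change i.app _ (a.app O r') = j.appLE _ _ _ (b.app O r') at e2
    rw [← e1, ← e2, hr]
  have hfin : IsFinite φ := by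
    refine { toIsAffineHom := hφ, finite_app := fun O hO => ?_ }
    subst ea
    have h8 := (a ≫ φ).finite_app O hO
    rw [Scheme.Hom.comp_app] at h8
    have h9 : IsNoetherianRing Γ(X', O) := IsLocallyNoetherian.component_noetherian ⟨O, hO⟩
    let _ := (φ.app O).hom.toAlgebra
    let _ := (φ.app O ≫ a.app (φ ⁻¹ᵁ O)).hom.toAlgebra
    have h10 : Module.Finite Γ(X', O) Γ(X, a ⁻¹ᵁ φ ⁻¹ᵁ O) := h8
    let l : Γ(X₁, φ ⁻¹ᵁ O) →ₗ[Γ(X', O)] Γ(X, a ⁻¹ᵁ φ ⁻¹ᵁ O) :=
      { toFun := a.app (φ ⁻¹ᵁ O)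
        map_add' := map_add _
        map_smul' := fun r x => by
          rw [Algebra.smul_def, Algebra.smul_def, map_mul]
          rfl }
    exact Module.Finite.of_injective l (hinj _)
  exact ⟨X₁, a, b, φ, ea, eb, h1, h3, h4, h2.affine_left, hfin, hinj⟩

/-- The quotient morphism is an isomorphism as soon as the pinching is. -/
theorem isIso_of_bijective {X Y Z X₁ : Scheme.{u}} {i : Z ⟶ X} {j : Z ⟶ Y} {a : X ⟶ X₁}
    {b : Y ⟶ X₁} (h : IsPullback i j a b) [IsAffineHom a] {O : X₁.Opens} (hO : IsAffineOpen O)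
    (hb : b ⁻¹ᵁ O = ⊤) (hbij : Function.Bijective (a.app O)) : IsIso j := by
  have h1 : IsIso (a.app O) := by
    rw [ConcreteCategory.isIso_iff_bijective]
    exact hbij
  have h2 : IsIso (a ∣_ O) := (isIso_morphismRestrict_iff_isIso_app a hO).2 h1
  have hr : Set.range b ⊆ Set.range O.ι := by
    rw [Scheme.Opens.range_ι]
    rintro _ ⟨y, rfl⟩
    have : y ∈ b ⁻¹ᵁ O := hb ▸ trivial
    exact this
  let b' : Y ⟶ O := IsOpenImmersion.lift O.ι b hr
  have hb' : b' ≫ O.ι = b := IsOpenImmersion.lift_fac _ _ _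
  have h3 := isPullback_morphismRestrict a O
  have hi : ∃ i' : Z ⟶ (a ⁻¹ᵁ O), i' ≫ (a ⁻¹ᵁ O).ι = i ∧ i' ≫ (a ∣_ O) = j ≫ b' := by
    refine ⟨h3.lift (j ≫ b') i (by rw [Category.assoc, hb', h.w]), ?_, ?_⟩
    · exact h3.lift_snd _ _ _
    · exact h3.lift_fst _ _ _
  obtain ⟨i', hi1, hi2⟩ := hi
  have h4 : IsPullback i' j (a ∣_ O) b' := by
    refine IsPullback.of_right (h₁₂ := (a ⁻¹ᵁ O).ι) (v₁₃ := a) (h₂₂ := O.ι) ?_ hi2 h3.flip
    rw [hi1, hb']
    exact h
  have := MorphismProperty.of_isPullback (P := MorphismProperty.isomorphisms Scheme) h4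
    (by exact h2)
  exact this

/-- Push-outs along prime algebras. -/
def Step : MorphismProperty Scheme.{u} := fun X Y f =>
  ∃ (x : Y) (A : Type u) (_ : CommRing A) (_ : Algebra (Y.residueField x) A)
    (_ : IsSimpleOrder (Subalgebra (Y.residueField x) A))
    (j : Spec (CommRingCat.of A) ⟶ X), IsClosedImmersion j ∧
    IsPushout j (Spec.map (CommRingCat.ofHom (algebraMap (Y.residueField x) A))) f
      (Y.fromSpecResidueField x)

/-- A closed immersion from the spectrum of a field is the inclusion of a residue field. -/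
theorem exists_residue {X : Scheme.{u}} {k : Type u} [Field k]
    (b : Spec (CommRingCat.of k) ⟶ X) [IsClosedImmersion b] :
    ∃ (x : X) (ψ : X.residueField x ⟶ CommRingCat.of k), IsIso ψ ∧
      Spec.map ψ ≫ X.fromSpecResidueField x = b := by
  obtain ⟨⟨x, ψ⟩, h⟩ := (Scheme.SpecToEquivOfField k X).symm.surjective b
  have h' : Spec.map ψ ≫ X.fromSpecResidueField x = b := h
  refine ⟨x, ψ, ?_, h'⟩
  have h1 : IsClosedImmersion (Spec.map ψ) := by
    have : IsClosedImmersion (Spec.map ψ ≫ X.fromSpecResidueField x) := h' ▸ inferInstance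
    exact IsClosedImmersion.of_comp _ (X.fromSpecResidueField x)
  have h2 : Surjective (Spec.map ψ) := by
    refine ⟨fun y => ⟨(⊥ : PrimeSpectrum k), ?_⟩⟩
    exact Subsingleton.elim (α := PrimeSpectrum (X.residueField x)) _ _
  have h3 : IsIso (Spec.map ψ) := isIso_of_isClosedImmersion_of_surjective (Spec.map ψ)
  rw [ConcreteCategory.isIso_iff_bijective]
  exact (isIso_SpecMap_iff).1 h3

theorem ring_data {A B : Type u} [CommRing A] [CommRing B] (g : A →+* B) [IsNoetherianRing A]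
    (hg : g.Finite) (hns : ¬ Function.Surjective g) :
    ∃ (k E : Type u) (_ : Field k) (_ : CommRing E) (κ : k →+* E) (π : B →+* E) (f : A →+* k),
      Function.Surjective π ∧ f.Finite ∧ κ.Finite ∧ Function.Injective κ ∧
      ¬ Function.Surjective κ ∧ π.comp g = κ.comp f ∧
      ∀ (k' : Type u) [CommRing k'] [Algebra k' E], (algebraMap k' E).range = κ.range →
        IsSimpleOrder (Subalgebra k' E) := by
  let _ := g.toAlgebra
  have hfin : Module.Finite A B := hg
  obtain ⟨C, hC⟩ := MinExt.exists_coatom (A := A) (B := B) hns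
  have hs := MinExt.isSimpleOrder_of_isCoatom hC
  have hfinC : Module.Finite C B := Module.Finite.of_restrictScalars_finite A C B
  obtain ⟨n, hn, hmem⟩ := MinExt.exists_maximal (C := C) (B := B)
  let _ := Ideal.Quotient.field n
  let κ : C ⧸ n →+* B ⧸ n.map (algebraMap C B) :=
    Ideal.quotientMap _ (algebraMap C B) Ideal.le_comap_map
  have hrange : κ.range = ((Ideal.Quotient.mk (n.map (algebraMap C B))).comp
      (algebraMap C B)).range := by
    ext e
    constructor
    · rintro ⟨c, rfl⟩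
      obtain ⟨c, rfl⟩ := Ideal.Quotient.mk_surjective c
      exact ⟨c, rfl⟩
    · rintro ⟨c, rfl⟩
      exact ⟨Ideal.Quotient.mk n c, rfl⟩
  have hsimple : ∀ (k' : Type u) [CommRing k'] [Algebra k' (B ⧸ n.map (algebraMap C B))],
      (algebraMap k' (B ⧸ n.map (algebraMap C B))).range = κ.range →
        IsSimpleOrder (Subalgebra k' (B ⧸ n.map (algebraMap C B))) := by
    intro k' _ _ hk'
    refine MinExt.isSimpleOrder_of_surj (C := C) (B := B)
      (Ideal.Quotient.mk (n.map (algebraMap C B))) Ideal.Quotient.mk_surjective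
      (hk'.trans hrange) fun b hb => ?_
    obtain ⟨c, -, hc⟩ := hmem b (Ideal.Quotient.eq_zero_iff_mem.1 hb)
    exact ⟨c, hc⟩
  have hnontriv : Nontrivial (B ⧸ n.map (algebraMap C B)) := by
    refine Ideal.Quotient.nontrivial_iff.2 fun htop => ?_
    obtain ⟨c, hc, hc1⟩ := hmem 1 (htop ▸ Submodule.mem_top)
    have : c = 1 := Subtype.ext hc1
    exact hn.ne_top ((Ideal.eq_top_iff_one _).2 (this ▸ hc))
  refine ⟨C ⧸ n, B ⧸ n.map (algebraMap C B), inferInstance, inferInstance, κ,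
    Ideal.Quotient.mk _, (Ideal.Quotient.mk n).comp (algebraMap A C),
    Ideal.Quotient.mk_surjective, ?_, ?_, RingHom.injective κ, ?_, rfl, hsimple⟩
  · have h1 : Module.Finite A C := Module.Finite.of_injective C.val.toLinearMap Subtype.val_injective
    have h2 : (algebraMap A C).Finite := h1
    exact (RingHom.Finite.of_surjective _ Ideal.Quotient.mk_surjective).comp h2
  · have h1 : ((Ideal.Quotient.mk (n.map (algebraMap C B))).comp (algebraMap C B)).Finite :=
      (RingHom.Finite.of_surjective _ Ideal.Quotient.mk_surjective).comp hfinC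
    have h2 : κ.comp (Ideal.Quotient.mk n) =
      (Ideal.Quotient.mk (n.map (algebraMap C B))).comp (algebraMap C B) := rfl
    rw [← h2] at h1
    exact RingHom.Finite.of_comp_finite h1
  · intro hsurj
    let _ : Algebra (C ⧸ n) (B ⧸ n.map (algebraMap C B)) := κ.toAlgebra
    have := hsimple (C ⧸ n) rfl
    refine bot_ne_top (α := Subalgebra (C ⧸ n) (B ⧸ n.map (algebraMap C B))) ?_
    rw [eq_top_iff]
    intro e _
    exact Algebra.mem_bot.2 (hsurj e)

theorem exists_step_aux {X X' : Scheme.{u}} [IsLocallyNoetherian X'] [JacobsonSpace X']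
    (β : X ⟶ X') [IsFinite β] {W : X'.Opens} (hW : IsAffineOpen W) {k E : Type u} [Field k]
    [CommRing E] (κ : k →+* E) (π : Γ(X, β ⁻¹ᵁ W) →+* E) (f : Γ(X', W) →+* k)
    (hπ : Function.Surjective π) (hf : f.Finite) (hκ : κ.Finite) (hκi : Function.Injective κ)
    (hκs : ¬ Function.Surjective κ) (hcomm : π.comp (β.app W).hom = κ.comp f) :
    ∃ (X₁ : Scheme.{u}) (a : X ⟶ X₁) (φ : X₁ ⟶ X') (x : X₁)
      (ψ : X₁.residueField x ⟶ CommRingCat.of k) (i : Spec (CommRingCat.of E) ⟶ X),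
      IsIso ψ ∧ a ≫ φ = β ∧ IsFinite φ ∧ IsClosedImmersion i ∧
      IsPushout i (Spec.map (ψ ≫ CommRingCat.ofHom κ)) a (X₁.fromSpecResidueField x) ∧
      IsPullback i (Spec.map (ψ ≫ CommRingCat.ofHom κ)) a (X₁.fromSpecResidueField x) ∧
      IsClosed {x} ∧ (∀ O, Function.Injective (a.app O)) ∧
      ¬ Function.Surjective (a.app (φ ⁻¹ᵁ W)) := by
  let i : Spec (CommRingCat.of E) ⟶ X :=
    Spec.map (CommRingCat.ofHom π) ≫ (hW.preimage β).fromSpec
  let j : Spec (CommRingCat.of E) ⟶ Spec (CommRingCat.of k) := Spec.map (CommRingCat.ofHom κ)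
  let b₀ : Spec (CommRingCat.of k) ⟶ X' := Spec.map (CommRingCat.ofHom f) ≫ hW.fromSpec
  have w : i ≫ β = j ≫ b₀ := by
    simp only [i, j, b₀]
    rw [Category.assoc, ← hW.SpecMap_appLE_fromSpec β (hW.preimage β) le_rfl,
      ← Scheme.Hom.app_eq_appLE, ← Spec.map_comp_assoc, ← Spec.map_comp_assoc,
      ← CommRingCat.ofHom_comp, ← hcomm]
    rfl
  have hb₀ : IsFinite b₀ := isFinite_of_field hW f hf
  have hj : IsFinite j := by
    rw [IsFinite.SpecMap_iff]
    exact hκ
  have hi0 : IsClosedImmersion (Spec.map (CommRingCat.ofHom π)) :=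
    IsClosedImmersion.spec_of_surjective _ hπ
  have hi : IsClosedImmersion i := by
    rw [IsClosedImmersion.iff_isFinite_and_mono]
    refine ⟨?_, inferInstance⟩
    have : IsFinite (i ≫ β) := w ▸ inferInstance
    exact IsFinite.of_comp i β
  have hjinj : ∀ V, Function.Injective (j.app V) := by
    have hnt : Nontrivial E := hκi.nontrivial
    have hs : Surjective j := by
      obtain ⟨z₀⟩ : Nonempty (PrimeSpectrum E) := inferInstance
      exact ⟨fun y => ⟨z₀, Subsingleton.elim (α := PrimeSpectrum k) _ _⟩⟩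
    have := IsSchemeTheoreticallyDominant.of_isDominant j
    exact fun V => j.app_injective V
  obtain ⟨X₁, a, b, φ, h1, h2, h3, h4, h5, h6, h7, h8⟩ := exists_factor i j β b₀ w hjinj
  obtain ⟨x, ψ, hψ, hb⟩ := exists_residue b
  refine ⟨X₁, a, φ, x, ψ, i, hψ, h1, h7, hi, ?_, ?_, ?_, h8, ?_⟩
  · refine IsPushout.of_iso h3 (Iso.refl _) (Iso.refl _) (asIso (Spec.map ψ)) (Iso.refl _) ?_ ?_ ?_ ?_
    · simp
    · simp [j]
    · simp
    · simpa using hb.symm
  · refine IsPullback.of_iso h4 (Iso.refl _) (Iso.refl _) (asIso (Spec.map ψ)) (Iso.refl _) ?_ ?_ ?_ ?_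
    · simp
    · simp [j]
    · simp
    · simpa using hb.symm
  · rw [isClosed_singleton_iff_isClosedImmersion]
    have : X₁.fromSpecResidueField x = inv (Spec.map ψ) ≫ b := by
      rw [← hb, IsIso.inv_hom_id_assoc]
    rw [this]
    infer_instance
  · intro hsurj
    have hb' : b ⁻¹ᵁ φ ⁻¹ᵁ W = ⊤ := by
      rw [← Scheme.Hom.comp_preimage, h2]
      ext z
      refine ⟨fun _ => trivial, fun _ => ?_⟩
      have : hW.fromSpec (Spec.map (CommRingCat.ofHom f) z) ∈ (W : Set X') := by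
        rw [← hW.range_fromSpec]
        exact ⟨_, rfl⟩
      exact this
    have := isIso_of_bijective h4 (hW.preimage φ) hb' ⟨h8 _, hsurj⟩
    exact hκs ((isIso_SpecMap_iff).1 this).2

end K577.FerrStep
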