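import Mathlib.RingTheory.Localization.BaseChange
import Mathlib.LinearAlgebra.TensorProduct.Quotient
import Mathlib.RingTheory.Ideal.Quotient.Operations

/-!
# Reducedness of fibres
-/

set_option autoImplicit false
universe u

open TensorProduct

namespace K577.FibRed

variable {A B K : Type u} [CommRing A] [CommRing B] [Algebra A B] [Field K] [Algebra A K]

theorem isLocalizedModule (hK : ∀ k : K, ∃ s a : A, algebraMap A K s ≠ 0 ∧
      algebraMap A K s * k = algebraMap A K a) :
    IsLocalizedModule (Submonoid.comap (algebraMap A K) (nonZeroDivisors K))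
      ((Ideal.Quotient.liftₐ (RingHom.ker (algebraMap A K)) (Algebra.ofId A K)
        (fun _ h => h)).toLinearMap) := by
  refine ⟨?_, ?_, ?_⟩
  · rintro ⟨s, hs⟩
    have hs' : algebraMap A K s ≠ 0 := nonZeroDivisors.ne_zero hs
    rw [Module.End.isUnit_iff]
    constructor
    · intro x y hxy
      change s • x = s • y at hxy
      rw [Algebra.smul_def, Algebra.smul_def] at hxy
      exact mul_left_cancel₀ hs' hxy
    · intro y
      refine ⟨(algebraMap A K s)⁻¹ * y, ?_⟩
      change s • ((algebraMap A K s)⁻¹ * y) = y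
      rw [Algebra.smul_def, mul_inv_cancel_left₀ hs']
  · intro y
    obtain ⟨s, a, hs, hsa⟩ := hK y
    refine ⟨(Ideal.Quotient.mk _ a, ⟨s, mem_nonZeroDivisors_of_ne_zero hs⟩), ?_⟩
    change s • y = algebraMap A K a
    rw [Algebra.smul_def, hsa]
  · intro x y hxy
    refine ⟨1, ?_⟩
    rw [one_smul, one_smul]
    obtain ⟨x, rfl⟩ := Ideal.Quotient.mk_surjective x
    obtain ⟨y, rfl⟩ := Ideal.Quotient.mk_surjective y
    rw [Ideal.Quotient.eq, RingHom.mem_ker, map_sub, sub_eq_zero]
    exact hxy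

theorem exists_of_tmul_eq_zero (hK : ∀ k : K, ∃ s a : A, algebraMap A K s ≠ 0 ∧
      algebraMap A K s * k = algebraMap A K a) {w : B} (h : (1 : K) ⊗ₜ[A] w = 0) :
    ∃ t : A, algebraMap A K t ≠ 0 ∧
      algebraMap A B t * w ∈ (RingHom.ker (algebraMap A K)).map (algebraMap A B) := by
  have := isLocalizedModule hK
  set p := RingHom.ker (algebraMap A K) with hp
  set g := (Ideal.Quotient.liftₐ p (Algebra.ofId A K) (fun _ h => h)).toLinearMap with hg
  have h1 : IsLocalizedModule (Submonoid.comap (algebraMap A K) (nonZeroDivisors K))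
    (AlgebraTensorModule.rTensor A B g) := inferInstance
  have h2 : (AlgebraTensorModule.rTensor A B g) ((1 : A ⧸ p) ⊗ₜ w) =
      (AlgebraTensorModule.rTensor A B g) 0 := by
    rw [map_zero]
    simpa [hg] using h
  obtain ⟨⟨t, ht⟩, ht2⟩ := h1.exists_of_eq h2
  refine ⟨t, nonZeroDivisors.ne_zero ht, ?_⟩
  rw [smul_zero] at ht2
  have h3 := congrArg (quotTensorEquivQuotSMul B p) ht2
  rw [map_zero] at h3
  change quotTensorEquivQuotSMul B p (t • (Ideal.Quotient.mk p 1 ⊗ₜ w)) = 0 at h3
  rw [map_smul, quotTensorEquivQuotSMul_mk_tmul, one_smul, ← Submodule.Quotient.mk_smul,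
    Submodule.Quotient.mk_eq_zero] at h3
  rw [← Algebra.smul_def]
  have h4 := Ideal.smul_top_eq_map (R := A) (S := B) p
  rw [h4] at h3
  exact h3

/-- Criterion for reducedness of a fibre. -/
theorem isReduced_tensor (hK : ∀ k : K, ∃ s a : A, algebraMap A K s ≠ 0 ∧
      algebraMap A K s * k = algebraMap A K a)
    (H : ∀ (w : B) (n : ℕ), w ^ n ∈ (RingHom.ker (algebraMap A K)).map (algebraMap A B) →
      ∃ t : A, algebraMap A K t ≠ 0 ∧
        algebraMap A B t * w ∈ (RingHom.ker (algebraMap A K)).map (algebraMap A B)) :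
    IsReduced (K ⊗[A] B) := by
  have key : ∀ z : K ⊗[A] B, ∃ s : A, algebraMap A K s ≠ 0 ∧ ∃ w : B,
      algebraMap A K s • z = (1 : K) ⊗ₜ w := by
    intro z
    induction z with
    | zero => exact ⟨1, by rw [map_one]; exact one_ne_zero, 0, by rw [smul_zero, tmul_zero]⟩
    | tmul k b =>
      obtain ⟨s, a, hs, hsa⟩ := hK k
      refine ⟨s, hs, a • b, ?_⟩
      rw [tmul_smul, smul_tmul', smul_tmul', smul_eq_mul, hsa, Algebra.smul_def, mul_one]
    | add x y hx hy =>
      obtain ⟨s, hs, w, hw⟩ := hx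
      obtain ⟨s', hs', w', hw'⟩ := hy
      refine ⟨s * s', by rw [map_mul]; exact mul_ne_zero hs hs', s' • w + s • w', ?_⟩
      rw [map_mul, smul_add, tmul_add, tmul_smul, tmul_smul, ← hw, ← hw', mul_smul, mul_smul,
        smul_comm (algebraMap A K s), algebraMap_smul, algebraMap_smul]
      rw [algebraMap_smul]
  refine ⟨fun z ⟨n, hn⟩ => ?_⟩
  obtain ⟨s, hs, w, hw⟩ := key z
  have h1 : (1 : K) ⊗ₜ[A] (w ^ n) = 0 := by
    have : (1 : K) ⊗ₜ[A] (w ^ n) = ((1 : K) ⊗ₜ[A] w) ^ n := by
      rw [Algebra.TensorProduct.tmul_pow, one_pow]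
    rw [this, ← hw, smul_pow, hn, smul_zero]
  obtain ⟨t, ht, htw⟩ := exists_of_tmul_eq_zero hK h1
  have h2 : (algebraMap A B t * w) ^ (n + 1) ∈
      (RingHom.ker (algebraMap A K)).map (algebraMap A B) := by
    have : (algebraMap A B t * w) ^ (n + 1) =
      (algebraMap A B t ^ n * w) * (algebraMap A B t * w ^ n) := by ring
    rw [this]
    exact Ideal.mul_mem_left _ _ htw
  obtain ⟨t', ht', htw'⟩ := H _ _ h2
  have h3 : ∀ y ∈ (RingHom.ker (algebraMap A K)).map (algebraMap A B), (1 : K) ⊗ₜ[A] y = 0 := by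
    intro y hy
    induction hy using Submodule.span_induction with
    | mem x hx =>
      obtain ⟨a, ha, rfl⟩ := hx
      rw [← mul_one (algebraMap A B a), ← Algebra.smul_def, tmul_smul, smul_tmul',
        Algebra.smul_def, (RingHom.mem_ker).1 ha, zero_mul, zero_tmul]
    | zero => rw [tmul_zero]
    | add x y _ _ hx hy => rw [tmul_add, hx, hy, add_zero]
    | smul c x _ hx =>
      rw [smul_eq_mul, ← one_mul (1 : K), ← Algebra.TensorProduct.tmul_mul_tmul, hx, mul_zero]
  have h4 := h3 _ htw'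
  have h5 : algebraMap A K (t' * t * s) • z = 0 := by
    rw [map_mul, mul_smul, hw, algebraMap_smul, ← tmul_smul, ← h4, Algebra.smul_def, map_mul]
    rw [mul_assoc]
  have h6 : algebraMap A K (t' * t * s) ≠ 0 := by
    rw [map_mul, map_mul]
    exact mul_ne_zero (mul_ne_zero ht' ht) hs
  exact (smul_eq_zero_iff_right h6).1 h5

end K577.FibRed
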