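import Groth.Prelude.Def_Found
import Mathlib.RingTheory.IntegralClosure.IntegrallyClosed
import Mathlib.RingTheory.Ideal.MinimalPrime.Basic
import Mathlib.RingTheory.Noetherian.Basic
import Mathlib.RingTheory.Localization.Integral
import Mathlib.RingTheory.Finiteness.Basic
import Mathlib.RingTheory.Ideal.Quotient.Operations

/-!
# Finiteness of integral extensions with trivial residue field extensions over Nagata rings
-/

set_option autoImplicit false
universe u

namespace K577.FinNag

theorem finite_of_isDomain {A D : Type u} [CommRing A] [CommRing D] [IsDomain D] [Algebra A D]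
    [Algebra.IsIntegral A D] (hN : CAlg.IsNagata A)
    (h : ∀ b : D, ∃ t a : A, algebraMap A D t ≠ 0 ∧ algebraMap A D t * b = algebraMap A D a) :
    Module.Finite A D := by
  have hNoeth : IsNoetherianRing A := hN.1
  let p := RingHom.ker (algebraMap A D)
  have hp : p.IsPrime := RingHom.ker_isPrime _
  let _ : Algebra (A ⧸ p) D := (RingHom.kerLift (algebraMap A D)).toAlgebra
  have htow : IsScalarTower A (A ⧸ p) D := IsScalarTower.of_algebraMap_eq fun _ => rfl
  have hinj : Function.Injective (algebraMap (A ⧸ p) D) := RingHom.kerLift_injective _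
  let L := FractionRing D
  have hinjL : Function.Injective (algebraMap (A ⧸ p) L) := by
    rw [IsScalarTower.algebraMap_eq (A ⧸ p) D L]
    exact (IsFractionRing.injective D L).comp hinj
  have hfaith : FaithfulSMul (A ⧸ p) L := (faithfulSMul_iff_algebraMap_injective _ _).2 hinjL
  let _ : Algebra (FractionRing (A ⧸ p)) L := FractionRing.liftAlgebra (A ⧸ p) L
  have htow2 : IsScalarTower (A ⧸ p) (FractionRing (A ⧸ p)) L :=
    FractionRing.isScalarTower_liftAlgebra (A ⧸ p) L
  have hsurj : Function.Surjective (algebraMap (FractionRing (A ⧸ p)) L) := by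
    have key : ∀ b : D, algebraMap D L b ∈ (algebraMap (FractionRing (A ⧸ p)) L).range := by
      intro b
      obtain ⟨t, a, ht, hta⟩ := h b
      have ht' : algebraMap D L (algebraMap A D t) ≠ 0 := fun h0 =>
        ht (IsFractionRing.injective D L (h0.trans (map_zero _).symm))
      have e : ∀ x : A, algebraMap D L (algebraMap A D x) = algebraMap (FractionRing (A ⧸ p)) L
          (algebraMap (A ⧸ p) (FractionRing (A ⧸ p)) (Ideal.Quotient.mk p x)) := by
        intro x
        rw [← IsScalarTower.algebraMap_apply (A ⧸ p) (FractionRing (A ⧸ p)) L,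
          IsScalarTower.algebraMap_apply (A ⧸ p) D L]
        rfl
      have : algebraMap D L b = algebraMap D L (algebraMap A D a) /
          algebraMap D L (algebraMap A D t) := by
        rw [eq_div_iff ht', ← map_mul, mul_comm b, hta]
      rw [this, e, e, ← map_div₀]
      exact ⟨_, rfl⟩
    intro y
    obtain ⟨b, s, hs, rfl⟩ := IsFractionRing.div_surjective (A := D) y
    obtain ⟨u, hu⟩ := key b
    obtain ⟨v, hv⟩ := key s
    exact ⟨u / v, by rw [map_div₀, hu, hv]⟩
  have hfd : FiniteDimensional (FractionRing (A ⧸ p)) L :=
    Module.Finite.of_surjective (Algebra.linearMap (FractionRing (A ⧸ p)) L) hsurj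
  have hfin : Module.Finite (A ⧸ p) (integralClosure (A ⧸ p) L) := hN.2 p L hfd
  have hint : ∀ d : D, algebraMap D L d ∈ integralClosure (A ⧸ p) L := by
    intro d
    have h1 : IsIntegral A d := Algebra.IsIntegral.isIntegral d
    have h2 : IsIntegral (A ⧸ p) d := h1.tower_top
    exact h2.map (IsScalarTower.toAlgHom (A ⧸ p) D L)
  let l : D →ₗ[A ⧸ p] integralClosure (A ⧸ p) L :=
    { toFun := fun d => ⟨algebraMap D L d, hint d⟩
      map_add' := fun x y => Subtype.ext (map_add _ _ _)
      map_smul' := fun r x => Subtype.ext (by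
        change algebraMap D L (r • x) = r • algebraMap D L x
        rw [Algebra.smul_def, Algebra.smul_def, map_mul,
          ← IsScalarTower.algebraMap_apply (A ⧸ p) D L]) }
  have hl : Function.Injective l := fun x y hxy =>
    IsFractionRing.injective D L (congrArg Subtype.val hxy)
  have hfinD : Module.Finite (A ⧸ p) D := Module.Finite.of_injective l hl
  exact Module.Finite.trans (A ⧸ p) D

/-- Integral reduced extensions with finitely many minimal primes and trivial generic residue
extensions are finite over Nagata rings. -/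
theorem finite_of_isReduced {A B : Type u} [CommRing A] [CommRing B] [Algebra A B] [IsReduced B]
    [Algebra.IsIntegral A B] (hN : CAlg.IsNagata A) (hfin : (minimalPrimes B).Finite)
    (h : ∀ q ∈ minimalPrimes B, ∀ b : B, ∃ t a : A, algebraMap A B t ∉ q ∧
      algebraMap A B t * b - algebraMap A B a ∈ q) : Module.Finite A B := by
  have hNoeth : IsNoetherianRing A := hN.1
  have _ : Finite (minimalPrimes B) := hfin
  have key : ∀ q : minimalPrimes B, Module.Finite A (B ⧸ q.1) := by
    intro q
    have hq : q.1.IsPrime := q.2.1.1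
    refine finite_of_isDomain hN fun b => ?_
    obtain ⟨b, rfl⟩ := Ideal.Quotient.mk_surjective b
    obtain ⟨t, a, ht, hta⟩ := h q.1 q.2 b
    refine ⟨t, a, fun h0 => ht (Ideal.Quotient.eq_zero_iff_mem.1 h0), ?_⟩
    have : Ideal.Quotient.mk q.1 (algebraMap A B t * b) = Ideal.Quotient.mk q.1 (algebraMap A B a) :=
      Ideal.Quotient.eq.2 hta
    rw [map_mul] at this
    exact this
  let l : B →ₗ[A] (∀ q : minimalPrimes B, B ⧸ q.1) :=
    LinearMap.pi fun q => (Ideal.Quotient.mkₐ A q.1).toLinearMap
  have hl : Function.Injective l := by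
    rw [injective_iff_map_eq_zero]
    intro b hb
    have : b ∈ nilradical B := by
      rw [nilradical, ← Ideal.sInf_minimalPrimes, Ideal.mem_sInf]
      intro q hq
      exact Ideal.Quotient.eq_zero_iff_mem.1 (congrFun hb ⟨q, hq⟩)
    exact (mem_nilradical.1 this).eq_zero
  exact Module.Finite.of_injective l hl

end K577.FinNag
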