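import Mathlib.RingTheory.Nakayama
import Mathlib.RingTheory.Ideal.Quotient.Operations
import Mathlib.RingTheory.Finiteness.Basic
import Mathlib.RingTheory.Noetherian.Basic
import Mathlib.Order.Atoms
import Mathlib.Algebra.Algebra.Subalgebra.Lattice
import Mathlib.Algebra.Algebra.Subalgebra.Tower

/-!
# Minimal finite ring extensions
-/

set_option autoImplicit false
universe u v

namespace K577.MinExt

variable {C : Type u} {B : Type v} [CommRing C] [CommRing B] [Algebra C B]

/-- The elements congruent to an element of the base modulo an ideal. -/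
def addIdeal (J : Ideal B) : Subalgebra C B where
  carrier := {b | ∃ c : C, b - algebraMap C B c ∈ J}
  mul_mem' := by
    rintro x y ⟨c, hc⟩ ⟨d, hd⟩
    refine ⟨c * d, ?_⟩
    have : x * y - algebraMap C B (c * d) =
      (x - algebraMap C B c) * y + algebraMap C B c * (y - algebraMap C B d) := by
      rw [map_mul]; ring
    rw [this]
    exact J.add_mem (J.mul_mem_right _ hc) (J.mul_mem_left _ hd)
  add_mem' := by
    rintro x y ⟨c, hc⟩ ⟨d, hd⟩
    refine ⟨c + d, ?_⟩
    have : x + y - algebraMap C B (c + d) =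
      (x - algebraMap C B c) + (y - algebraMap C B d) := by
      rw [map_add]; ring
    rw [this]
    exact J.add_mem hc hd
  algebraMap_mem' := fun r => ⟨r, by rw [sub_self]; exact J.zero_mem⟩

theorem mem_addIdeal {J : Ideal B} {b : B} :
    b ∈ addIdeal (C := C) J ↔ ∃ c : C, b - algebraMap C B c ∈ J := Iff.rfl

theorem exists_maximal [Module.Finite C B] [hs : IsSimpleOrder (Subalgebra C B)] :
    ∃ n : Ideal C, n.IsMaximal ∧ ∀ b ∈ n.map (algebraMap C B), ∃ c ∈ n, algebraMap C B c = b := by
  let N : Submodule C B := LinearMap.range (Algebra.linearMap C B)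
  have hmemN : ∀ b, b ∈ N ↔ b ∈ (⊥ : Subalgebra C B) := fun b => by
    rw [Algebra.mem_bot]
    rfl
  have hNtop : N ≠ ⊤ := fun h => bot_ne_top (α := Subalgebra C B) (by
    rw [eq_top_iff]
    intro b _
    rw [← hmemN, h]
    exact Submodule.mem_top)
  have hann : Module.annihilator C (B ⧸ N) ≠ ⊤ := fun h => by
    rw [Module.annihilator_eq_top_iff] at h
    exact hNtop (Submodule.Quotient.subsingleton_iff.1 h)
  obtain ⟨n, hn, hle⟩ := Ideal.exists_le_maximal _ hann
  have hD : addIdeal (C := C) (n.map (algebraMap C B)) ≠ ⊤ := by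
    intro hD
    have h1 : (⊤ : Submodule C (B ⧸ N)) ≤ n • (⊤ : Submodule C (B ⧸ N)) := by
      rintro x -
      obtain ⟨b, rfl⟩ := N.mkQ_surjective x
      have hb : b ∈ addIdeal (C := C) (n.map (algebraMap C B)) := hD ▸ Algebra.mem_top
      obtain ⟨c, hc⟩ := hb
      have h2 : N.mkQ b = N.mkQ (b - algebraMap C B c) := by
        rw [map_sub]
        have : N.mkQ (algebraMap C B c) = 0 := by
          rw [Submodule.mkQ_apply, Submodule.Quotient.mk_eq_zero]
          exact ⟨c, rfl⟩
        rw [this, sub_zero]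
      rw [h2]
      have h3 : b - algebraMap C B c ∈ n • (⊤ : Submodule C B) := by
        rw [Ideal.smul_top_eq_map]
        exact hc
      have h4 := Submodule.mem_map_of_mem (f := N.mkQ) h3
      rw [Submodule.map_smul''] at h4
      exact Submodule.smul_mono le_rfl le_top h4
    obtain ⟨r, hr1, hr2⟩ := Submodule.exists_sub_one_mem_and_smul_eq_zero_of_fg_of_le_smul n
      (⊤ : Submodule C (B ⧸ N)) Module.Finite.fg_top h1
    have hr3 : r ∈ n := hle (Module.mem_annihilator.2 fun m => hr2 m Submodule.mem_top)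
    exact hn.ne_top ((Ideal.eq_top_iff_one _).2 (by
      have := n.sub_mem hr3 hr1
      rwa [sub_sub_cancel] at this))
  have hD' : addIdeal (C := C) (n.map (algebraMap C B)) = ⊥ := (eq_bot_or_eq_top _).resolve_right hD
  have hle' : ∀ b ∈ n.map (algebraMap C B), b ∈ (⊥ : Subalgebra C B) := by
    intro b hb
    rw [← hD']
    exact ⟨0, by rw [map_zero, sub_zero]; exact hb⟩
  refine ⟨n, hn, fun b hb => ?_⟩
  obtain ⟨c, rfl⟩ := Algebra.mem_bot.1 (hle' b hb)
  refine ⟨c, ?_, rfl⟩
  by_contra hc
  obtain ⟨y, x, hx, hxy⟩ := hn.exists_inv hc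
  have h1 : (1 : B) ∈ n.map (algebraMap C B) := by
    rw [← map_one (algebraMap C B), ← hxy, map_add, map_mul]
    exact Ideal.add_mem _ (Ideal.mul_mem_left _ _ hb) (Ideal.mem_map_of_mem _ hx)
  refine bot_ne_top (α := Subalgebra C B) (eq_top_iff.2 fun b _ => hle' b ?_)
  rw [(Ideal.eq_top_iff_one _).2 h1]
  exact Submodule.mem_top

/-- Transport of simplicity. -/
theorem isSimpleOrder_of_surj {k E : Type*} [CommRing k] [CommRing E] [Algebra k E]
    [IsSimpleOrder (Subalgebra C B)] (π : B →+* E) (hπ : Function.Surjective π)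
    (hr : (algebraMap k E).range = (π.comp (algebraMap C B)).range)
    (hker : ∀ b, π b = 0 → b ∈ (algebraMap C B).range) : IsSimpleOrder (Subalgebra k E) := by
  have hmem : ∀ e : E, e ∈ (⊥ : Subalgebra k E) ↔ ∃ c : C, π (algebraMap C B c) = e := by
    intro e
    rw [Algebra.mem_bot]
    change e ∈ (algebraMap k E).range ↔ _
    rw [hr]
    rfl
  have hc : ∀ (S : Subalgebra k E) (c : C), π (algebraMap C B c) ∈ S := fun S c =>
    (bot_le : ⊥ ≤ S) ((hmem _).2 ⟨c, rfl⟩)
  let comap : Subalgebra k E → Subalgebra C B := fun S =>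
    { carrier := {b | π b ∈ S}
      mul_mem' := fun {x y} hx hy => by
        change π (x * y) ∈ S
        rw [map_mul]
        exact S.mul_mem hx hy
      add_mem' := fun {x y} hx hy => by
        change π (x + y) ∈ S
        rw [map_add]
        exact S.add_mem hx hy
      algebraMap_mem' := hc S }
  have hcomap : ∀ S b, b ∈ comap S ↔ π b ∈ S := fun _ _ => Iff.rfl
  have hne : (⊥ : Subalgebra k E) ≠ ⊤ := by
    intro h
    refine bot_ne_top (α := Subalgebra C B) (eq_top_iff.2 fun b _ => ?_)
    obtain ⟨c, hc⟩ := (hmem (π b)).1 (h ▸ Algebra.mem_top)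
    have h1 : b - algebraMap C B c ∈ (algebraMap C B).range :=
      hker _ (by rw [map_sub, hc, sub_self])
    obtain ⟨c', hc'⟩ := h1
    refine Algebra.mem_bot.2 ⟨c' + c, ?_⟩
    rw [map_add, hc', sub_add_cancel]
  have : Nontrivial (Subalgebra k E) := ⟨⊥, ⊤, hne⟩
  refine ⟨fun S => ?_⟩
  rcases eq_bot_or_eq_top (comap S) with h | h
  · left
    rw [eq_bot_iff]
    intro e he
    obtain ⟨b, rfl⟩ := hπ e
    have : b ∈ comap S := he
    rw [h] at this
    obtain ⟨c, rfl⟩ := Algebra.mem_bot.1 this
    exact (hmem _).2 ⟨c, rfl⟩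
  · right
    rw [eq_top_iff]
    intro e _
    obtain ⟨b, rfl⟩ := hπ e
    have : b ∈ comap S := h ▸ Algebra.mem_top
    exact this

/-- A maximal proper subalgebra of a finite algebra over a Noetherian ring. -/
theorem exists_coatom {A B : Type u} [CommRing A] [CommRing B] [Algebra A B] [IsNoetherianRing A]
    [Module.Finite A B] (h : ¬ Function.Surjective (algebraMap A B)) :
    ∃ C : Subalgebra A B, IsCoatom C := by
  have hw : WellFoundedGT (Subalgebra A B) := by
    have h1 : WellFoundedGT (Submodule A B) := inferInstance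
    have h2 : StrictMono (Subalgebra.toSubmodule : Subalgebra A B → Submodule A B) :=
      (Subalgebra.toSubmodule (R := A) (A := B)).strictMono
    exact h2.wellFoundedGT
  have hne : (⊥ : Subalgebra A B) ≠ ⊤ := fun hbt => h fun b => by
    have : b ∈ (⊥ : Subalgebra A B) := hbt ▸ Algebra.mem_top
    exact Algebra.mem_bot.1 this
  obtain ⟨C, hC, -⟩ := (eq_top_or_exists_le_coatom (⊥ : Subalgebra A B)).resolve_left hne
  exact ⟨C, hC⟩

theorem isSimpleOrder_of_isCoatom {A B : Type u} [CommRing A] [CommRing B] [Algebra A B]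
    {C : Subalgebra A B} (hC : IsCoatom C) : IsSimpleOrder (Subalgebra C B) := by
  have hle : ∀ S : Subalgebra C B, C ≤ S.restrictScalars A := fun S c hc =>
    S.algebraMap_mem ⟨c, hc⟩
  have hne : (⊥ : Subalgebra C B) ≠ ⊤ := fun h => hC.1 (eq_top_iff.2 fun b _ => by
    have : b ∈ (⊥ : Subalgebra C B) := h ▸ Algebra.mem_top
    obtain ⟨c, rfl⟩ := Algebra.mem_bot.1 this
    exact c.2)
  have : Nontrivial (Subalgebra C B) := ⟨⊥, ⊤, hne⟩
  refine ⟨fun S => ?_⟩
  rcases (hle S).eq_or_lt with h | h
  · left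
    rw [eq_bot_iff]
    intro b hb
    have : b ∈ S.restrictScalars A := hb
    rw [← h] at this
    exact Algebra.mem_bot.2 ⟨⟨b, this⟩, rfl⟩
  · right
    have := hC.2 _ h
    rw [eq_top_iff]
    intro b _
    have h1 : b ∈ S.restrictScalars A := this ▸ Algebra.mem_top
    exact h1

end K577.MinExt
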