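import Groth.Agent.HTop.K344.AwnBij
import Groth.Agent.CalgA.SerreLocal
import Mathlib.RingTheory.Polynomial.ScaleRoots
import Mathlib.RingTheory.Localization.Integral
import Mathlib.RingTheory.Ideal.GoingUp
import Mathlib.RingTheory.Ideal.MinimalPrime.Basic
import Mathlib.RingTheory.Ideal.MinimalPrime.Localization
import Mathlib.LinearAlgebra.TensorProduct.Quotient

/-!
# The conductor square of a seminormal ring of dimension one
-/

set_option autoImplicit false
universe u

open TensorProduct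

namespace K577.SemiRing

open K344.AwnBij

variable {A B : Type u} [CommRing A] [CommRing B] [Algebra A B]

variable (A B) in
/-- Birational extensions of rings. -/
structure Bir : Prop where
  inj : Function.Injective (algebraMap A B)
  gen : ∀ p ∈ minimalPrimes A, ∀ b : B, ∃ t ∉ p, ∃ a : A, algebraMap A B t * b = algebraMap A B a
  min : ∀ q ∈ minimalPrimes B, q.comap (algebraMap A B) ∈ minimalPrimes A

variable (A B) in
/-- The conductor. -/
abbrev cond : Ideal A := conductor (algebraMap A B)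

theorem exists_mem_cond [Module.Finite A B] (p : Ideal A) [hp : p.IsPrime]
    (h : ∀ b : B, ∃ t ∉ p, ∃ a : A, algebraMap A B t * b = algebraMap A B a) :
    ∃ s ∈ cond A B, s ∉ p := by
  classical
  obtain ⟨T, hT⟩ := (Module.Finite.fg_top (R := A) (M := B))
  choose t ht a ha using h
  refine ⟨∏ x ∈ T, t x, fun w => ?_, ?_⟩
  · have hw : w ∈ Submodule.span A (T : Set B) := hT ▸ Submodule.mem_top
    induction hw using Submodule.span_induction with
    | mem x hx =>
      rw [← Finset.prod_erase_mul T _ hx, map_mul, mul_assoc, ha x, ← map_mul]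
      exact ⟨_, rfl⟩
    | zero => rw [mul_zero]; exact zero_mem _
    | add x y _ _ hx hy => rw [mul_add]; exact add_mem hx hy
    | smul c x _ hx =>
      rw [Algebra.smul_def, mul_left_comm]
      exact (algebraMap A B).range.mul_mem ⟨c, rfl⟩ hx
  · intro hcon
    obtain ⟨x, -, hx⟩ := (Ideal.IsPrime.prod_mem_iff (hp := hp)).1 hcon
    exact ht x hx

/-- A minimal prime below `p` when `A_p` is a domain. -/
theorem exists_below (p : Ideal A) [hp : p.IsPrime] [IsDomain (Localization.AtPrime p)] :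
    ∃ p₀ ∈ minimalPrimes A, (∀ x, x ∈ p₀ ↔ algebraMap A (Localization.AtPrime p) x = 0) ∧
      ∀ q : Ideal A, q.IsPrime → q ≤ p → p₀ ≤ q := by
  have key : ∀ q : Ideal A, q.IsPrime → q ≤ p →
      RingHom.ker (algebraMap A (Localization.AtPrime p)) ≤ q := by
    intro q hq hqp x hx
    obtain ⟨s, hs⟩ := (IsLocalization.map_eq_zero_iff p.primeCompl _ x).1 hx
    exact (hq.mem_or_mem (hs ▸ q.zero_mem : (s : A) * x ∈ q)).resolve_left fun h => s.2 (hqp h)
  refine ⟨RingHom.ker (algebraMap A (Localization.AtPrime p)), ⟨⟨RingHom.ker_isPrime _, bot_le⟩,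
    fun q hq hle => key q hq.1 (hle.trans (key p hp le_rfl))⟩, fun x => Iff.rfl, key⟩

theorem exists_smul_mem [IsReduced B] [Algebra.IsIntegral A B] (h : Bir A B) (p : Ideal A)
    [hp : p.IsPrime] [IsDomain (Localization.AtPrime p)]
    [IsIntegrallyClosed (Localization.AtPrime p)] (b : B) :
    ∃ s ∉ p, ∃ a : A, algebraMap A B s * b = algebraMap A B a := by
  obtain ⟨p₀, hp₀, hmem, hbel⟩ := exists_below p
  obtain ⟨t, ht, a, hta⟩ := h.gen p₀ hp₀ b
  let R := Localization.AtPrime p
  let K := FractionRing R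
  let ψ : A →+* K := (algebraMap R K).comp (algebraMap A R)
  have ht0 : ψ t ≠ 0 := fun h0 => by
    have h1 : algebraMap A R t = 0 := IsFractionRing.injective R K (h0.trans (map_zero _).symm)
    exact ht ((hmem t).2 h1)
  obtain ⟨P, hP, hPb⟩ := Algebra.IsIntegral.isIntegral (R := A) b
  have h1 : (P.scaleRoots t).eval a = 0 := by
    apply h.inj
    rw [map_zero, ← Polynomial.eval₂_at_apply, ← hta, Polynomial.scaleRoots_eval₂_mul, hPb,
      mul_zero]
  have h2 : Polynomial.eval₂ ψ (ψ a / ψ t) P = 0 := by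
    have h3 : Polynomial.eval₂ ψ (ψ t * (ψ a / ψ t)) (P.scaleRoots t) = 0 := by
      rw [mul_div_cancel₀ _ ht0, Polynomial.eval₂_at_apply, h1, map_zero]
    rw [Polynomial.scaleRoots_eval₂_mul] at h3
    exact (mul_eq_zero.1 h3).resolve_left (pow_ne_zero _ ht0)
  have h3 : IsIntegral R (ψ a / ψ t) := by
    refine ⟨P.map (algebraMap A R), hP.map _, ?_⟩
    rw [Polynomial.eval₂_map]
    exact h2
  obtain ⟨r, hr⟩ := IsIntegrallyClosed.isIntegral_iff.1 h3
  obtain ⟨⟨a', s⟩, hs⟩ := IsLocalization.surj p.primeCompl r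
  have h4 : algebraMap A R (a * s) = algebraMap A R (a' * t) := by
    apply IsFractionRing.injective R K
    rw [map_mul, map_mul, map_mul, map_mul, ← hs, map_mul, hr]
    change ψ a * ψ s = ψ a / ψ t * ψ s * ψ t
    rw [mul_right_comm, div_mul_cancel₀ _ ht0]
  obtain ⟨u, hu⟩ := (IsLocalization.eq_iff_exists p.primeCompl R).1 h4
  let x : B := algebraMap A B s * b - algebraMap A B a'
  have hw : algebraMap A B (u * t) * x = 0 := by
    have h5 := congrArg (algebraMap A B) hu
    simp only [map_mul] at h5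
    simp only [x, map_mul]
    linear_combination h5 + algebraMap A B u * algebraMap A B s * hta
  have hwp : ((u : A) * t) ∉ p₀ := fun hcon =>
    (hp₀.1.1.mem_or_mem hcon).elim (fun h => u.2 (hbel p hp le_rfl h)) ht
  obtain ⟨v, hv, hvx⟩ : ∃ v ∉ p, algebraMap A B v * x = 0 := by
    by_contra hcon
    push Not at hcon
    let S : Submonoid B := (p.primeCompl.map (algebraMap A B)) ⊔ Submonoid.powers x
    have hS : Disjoint ((⊥ : Ideal B) : Set B) (S : Set B) := by
      rw [Set.disjoint_left]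
      rintro y hy hyS
      obtain ⟨_, ⟨v, hv, rfl⟩, _, ⟨n, rfl⟩, hvn⟩ := Submonoid.mem_sup.1 hyS
      rw [Ideal.mem_bot.1 hy] at hvn
      have h6 : (algebraMap A B v * x) ^ (n + 1) = 0 := by
        have : (algebraMap A B v * x) ^ (n + 1) =
          (algebraMap A B v * x ^ n) * (algebraMap A B v ^ n * x) := by
          rw [mul_pow, pow_succ, pow_succ]; ac_rfl
        rw [this]
        erw [hvn]
        rw [zero_mul]
      exact hcon v hv (pow_eq_zero_iff (Nat.succ_ne_zero n) |>.1 h6)
    obtain ⟨q', hq', -, hdis⟩ := Ideal.exists_le_prime_disjoint ⊥ S hS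
    obtain ⟨q, hq, hqq'⟩ := Ideal.exists_minimalPrimes_le (J := q') bot_le
    have hqx : x ∉ q := fun hcon => Set.disjoint_left.1 hdis (hqq' hcon)
      ((le_sup_right : Submonoid.powers x ≤ S) (Submonoid.mem_powers x))
    have hqp : q.comap (algebraMap A B) ≤ p := by
      intro y hy
      by_contra hyp
      exact Set.disjoint_left.1 hdis (hqq' hy)
        ((le_sup_left : p.primeCompl.map (algebraMap A B) ≤ S) ⟨y, hyp, rfl⟩)
    have hqmin := h.min q hq
    have h7 : p₀ ≤ q.comap (algebraMap A B) := hbel _ hqmin.1.1 hqp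
    have h8 : q.comap (algebraMap A B) ≤ p₀ := hqmin.2 ⟨hp₀.1.1, bot_le⟩ h7
    have h9 : algebraMap A B (u * t) ∉ q := fun h => hwp (h8 h)
    exact hqx ((hq.1.1.mem_or_mem (hw ▸ q.zero_mem)).resolve_left h9)
  refine ⟨v * s, fun hcon => (hp.mem_or_mem hcon).elim hv s.2, v * a', ?_⟩
  rw [map_mul, map_mul]
  have : algebraMap A B v * (algebraMap A B s * b - algebraMap A B a') = 0 := hvx
  linear_combination this

/-- If the conductor is not contained in `p`, then `A_p` is the local ring of `B` above `p`. -/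
theorem exists_equiv [Module.Finite A B] (h : Bir A B) (p : Ideal A) [hp : p.IsPrime] {s : A}
    (hs : s ∈ cond A B) (hsp : s ∉ p) : ∃ (q : Ideal B) (_ : q.IsPrime),
      Nonempty (Localization.AtPrime p ≃+* Localization.AtPrime q) := by
  have hker : (⊥ : Ideal B).comap (algebraMap A B) ≤ p := by
    rw [← RingHom.ker_eq_comap_bot, (RingHom.injective_iff_ker_eq_bot _).1 h.inj]
    exact bot_le
  obtain ⟨q, -, hq, hqp⟩ := Ideal.exists_ideal_over_prime_of_isIntegral p (⊥ : Ideal B) hker
  have hqmem : ∀ x, algebraMap A B x ∈ q ↔ x ∈ p := fun x => by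
    rw [← hqp, Ideal.mem_comap]
  have hsq : algebraMap A B s ∉ q := fun h => hsp ((hqmem s).1 h)
  refine ⟨q, hq, ⟨RingEquiv.ofBijective
    (Localization.localRingHom p q (algebraMap A B) hqp.symm) ⟨?_, ?_⟩⟩⟩
  · rw [injective_iff_map_eq_zero]
    intro x hx
    obtain ⟨a, t, rfl⟩ := IsLocalization.exists_mk'_eq p.primeCompl x
    rw [Localization.localRingHom_mk', IsLocalization.mk'_eq_zero_iff] at hx
    obtain ⟨⟨v, hv⟩, hva⟩ := hx
    obtain ⟨v', hv'⟩ := hs v
    rw [IsLocalization.mk'_eq_zero_iff]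
    refine ⟨⟨v', fun hcon => ?_⟩, ?_⟩
    · have := (hqmem v').2 hcon
      rw [hv'] at this
      exact (hq.mem_or_mem this).elim hsq hv
    · apply h.inj
      change algebraMap A B (v' * a) = _
      rw [map_mul, hv', map_zero, mul_assoc]
      erw [hva]
      rw [mul_zero]
  · intro y
    obtain ⟨b, ⟨v, hv⟩, rfl⟩ := IsLocalization.exists_mk'_eq q.primeCompl y
    obtain ⟨v', hv'⟩ := hs v
    obtain ⟨b', hb'⟩ := hs b
    have hvp : v' ∉ p := fun hcon => by
      have := (hqmem v').2 hcon
      rw [hv'] at this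
      exact (hq.mem_or_mem this).elim hsq hv
    refine ⟨IsLocalization.mk' _ b' (⟨v', hvp⟩ : p.primeCompl), ?_⟩
    rw [Localization.localRingHom_mk', IsLocalization.mk'_eq_iff_eq]
    congr 1
    change v * algebraMap A B b' = algebraMap A B v' * b
    rw [hb', hv']
    ring

theorem not_cond_le_of_mem_minimalPrimes [Module.Finite A B] (h : Bir A B) {p : Ideal A}
    (hp : p ∈ minimalPrimes A) : ¬ cond A B ≤ p := by
  have := hp.1.1
  obtain ⟨s, hs, hsp⟩ := exists_mem_cond p (h.gen p hp)
  exact fun hle => hsp (hle hs)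

/-- The conductor describes the singular locus. -/
theorem cond_le_iff [Module.Finite A B] [IsNoetherianRing A] [IsReduced B] (h : Bir A B)
    (hA : ringKrullDim A ≤ 1)
    (hB : ∀ (q : Ideal B) [q.IsPrime], IsDomain (Localization.AtPrime q) ∧
      IsIntegrallyClosed (Localization.AtPrime q)) (p : Ideal A) [hp : p.IsPrime] :
    cond A B ≤ p ↔ ¬ IsRegularLocalRing (Localization.AtPrime p) := by
  have hdim : ringKrullDim (Localization.AtPrime p) ≤ 1 :=
    ((IsLocalization.AtPrime.ringKrullDim_eq_height p _).le.trans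
      (Ideal.height_le_ringKrullDim_of_ne_top hp.ne_top)).trans hA
  constructor
  · intro hle hreg
    obtain ⟨h1, h2⟩ := Groth.Agent.CalgA.SerreLocal.isIntegrallyClosed_of_isRegularLocalRing hdim
    obtain ⟨s, hs, hsp⟩ := exists_mem_cond p (exists_smul_mem h p)
    exact hsp (hle hs)
  · intro hreg
    by_contra hle
    obtain ⟨s, hs, hsp⟩ := SetLike.not_le_iff_exists.1 hle
    obtain ⟨q, hq, ⟨e⟩⟩ := exists_equiv h p hs hsp
    obtain ⟨h1, h2⟩ := hB q
    have : IsDomain (Localization.AtPrime p) := MulEquiv.isDomain _ e.toMulEquiv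
    have : IsIntegrallyClosed (Localization.AtPrime p) := IsIntegrallyClosed.of_equiv e.symm
    exact hreg (Groth.Agent.CalgA.SerreLocal.isRegularLocalRing_of_isIntegrallyClosed hdim)

/-- The reduced ideal of the singular locus is the conductor. -/
theorem eq_cond [Module.Finite A B] [IsNoetherianRing A] [IsReduced B] (h : Bir A B)
    (hA : ringKrullDim A ≤ 1) (hsn : HTop.IsSeminormalRing A)
    (hB : ∀ (q : Ideal B) [q.IsPrime], IsDomain (Localization.AtPrime q) ∧
      IsIntegrallyClosed (Localization.AtPrime q)) {I : Ideal A} (hI : I.IsRadical)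
    (H : ∀ (p : Ideal A) [p.IsPrime], I ≤ p ↔ ¬ IsRegularLocalRing (Localization.AtPrime p)) :
    I = cond A B := by
  have hc : (cond A B).IsRadical := isRadical_conductor _ h.inj hsn
  rw [← hI.radical, ← hc.radical, Ideal.radical_eq_sInf, Ideal.radical_eq_sInf]
  congr 1
  ext p
  constructor
  · rintro ⟨h1, h2⟩
    exact ⟨(cond_le_iff h hA hB p).2 ((H p).1 h1), h2⟩
  · rintro ⟨h1, h2⟩
    exact ⟨(H p).2 ((cond_le_iff h hA hB p).1 h1), h2⟩

/-- The conductor is an ideal of `B`. -/
theorem exists_of_mem_map_cond {b : B} (hb : b ∈ (cond A B).map (algebraMap A B)) :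
    ∃ a ∈ cond A B, algebraMap A B a = b := by
  induction hb using Submodule.span_induction with
  | mem x hx =>
    obtain ⟨a, ha, rfl⟩ := hx
    exact ⟨a, ha, rfl⟩
  | zero => exact ⟨0, zero_mem _, map_zero _⟩
  | add x y _ _ hx hy =>
    obtain ⟨a, ha, rfl⟩ := hx
    obtain ⟨a', ha', rfl⟩ := hy
    exact ⟨a + a', add_mem ha ha', map_add _ _ _⟩
  | smul c x _ hx =>
    obtain ⟨a, ha, rfl⟩ := hx
    obtain ⟨a', ha'⟩ := ha c
    refine ⟨a', fun w => ?_, by rw [ha', smul_eq_mul, mul_comm]⟩
    rw [ha', mul_assoc]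
    exact ha _

/-- The extension of the conductor is radical when `A` is seminormal. -/
theorem isRadical_map_cond [IsReduced B] (hinj : Function.Injective (algebraMap A B))
    (hsn : HTop.IsSeminormalRing A) :
    ((cond A B).map (algebraMap A B)).IsRadical := by
  rw [Ideal.isRadical_iff_pow_one_lt 2 (by norm_num)]
  intro b hb
  have key : ∀ w : B, b * w ∈ (algebraMap A B).range := by
    intro w
    apply mem_range_of_pow_two_three _ hinj hsn
    · obtain ⟨a, -, ha⟩ := exists_of_mem_map_cond (Ideal.mul_mem_right (w ^ 2) _ hb)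
      exact ⟨a, by rw [ha, mul_pow]⟩
    · obtain ⟨a, -, ha⟩ := exists_of_mem_map_cond (Ideal.mul_mem_right (b * w ^ 3) _ hb)
      exact ⟨a, by rw [ha]; ring⟩
  obtain ⟨a, ha⟩ := key 1
  rw [mul_one] at ha
  rw [← ha]
  refine Ideal.mem_map_of_mem _ fun w => ?_
  rw [ha]
  exact key w

theorem exists_mul_mem_of_minimal {I p : Ideal A} [hp : p.IsPrime] (hI : I.IsRadical)
    (h : ∀ q : Ideal A, q.IsPrime → I ≤ q → q ≤ p → q = p) {x : A} (hx : x ∈ p) :
    ∃ t ∉ p, t * x ∈ I := by
  by_contra hcon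
  push Not at hcon
  let S : Submonoid A := p.primeCompl ⊔ Submonoid.powers x
  have hS : Disjoint (I : Set A) (S : Set A) := by
    rw [Set.disjoint_left]
    rintro y hy hyS
    obtain ⟨t, ht, _, ⟨n, rfl⟩, hvn⟩ := Submonoid.mem_sup.1 hyS
    rw [← hvn] at hy
    refine hcon t ht (hI ⟨n + 1, ?_⟩)
    have : (t * x) ^ (n + 1) = (t ^ n * x) * (t * x ^ n) := by ring
    rw [this]
    exact I.mul_mem_left _ hy
  obtain ⟨q, hq, hIq, hdis⟩ := Ideal.exists_le_prime_disjoint I S hS
  have hqp : q ≤ p := fun y hy => by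
    by_contra hyp
    exact Set.disjoint_left.1 hdis hy ((le_sup_left : p.primeCompl ≤ S) hyp)
  rw [h q hq hIq hqp] at hdis
  exact Set.disjoint_left.1 hdis hx
    ((le_sup_right : Submonoid.powers x ≤ S) (Submonoid.mem_powers x))

/-- Elements with nilpotent image in the fibre over `p` vanish there. -/
theorem exists_smul_mem_map [Module.Finite A B] [IsReduced B] (h : Bir A B)
    (hA : ringKrullDim A ≤ 1) (hsn : HTop.IsSeminormalRing A) {p : Ideal A} [hp : p.IsPrime]
    (hle : cond A B ≤ p) {w : B} {n : ℕ} (hw : w ^ n ∈ p.map (algebraMap A B)) :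
    ∃ t ∉ p, algebraMap A B t * w ∈ p.map (algebraMap A B) := by
  have hmin : ∀ q : Ideal A, q.IsPrime → cond A B ≤ q → q ≤ p → q = p := by
    intro q hq hcq hqp
    have : Ring.KrullDimLE 1 A := Ring.krullDimLE_iff.mpr hA
    rcases (Ring.krullDimLE_one_iff.mp this) q hq with h1 | h1
    · exact absurd hcq (not_cond_le_of_mem_minimalPrimes h h1)
    · exact h1.eq_of_le hp.ne_top hqp
  have hc : (cond A B).IsRadical := isRadical_conductor _ h.inj hsn
  have key : ∀ z ∈ p.map (algebraMap A B), ∃ t ∉ p,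
      algebraMap A B t * z ∈ (cond A B).map (algebraMap A B) := by
    intro z hz
    induction hz using Submodule.span_induction with
    | mem x hx =>
      obtain ⟨a, ha, rfl⟩ := hx
      obtain ⟨t, ht, hta⟩ := exists_mul_mem_of_minimal hc hmin ha
      refine ⟨t, ht, ?_⟩
      rw [← map_mul]
      exact Ideal.mem_map_of_mem _ hta
    | zero => exact ⟨1, fun h => hp.ne_top ((Ideal.eq_top_iff_one _).2 h), by simp⟩
    | add x y _ _ hx hy =>
      obtain ⟨t, ht, hta⟩ := hx
      obtain ⟨t', ht', hta'⟩ := hy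
      refine ⟨t * t', fun hcon => (hp.mem_or_mem hcon).elim ht ht', ?_⟩
      have : algebraMap A B (t * t') * (x + y) =
        algebraMap A B t' * (algebraMap A B t * x) + algebraMap A B t * (algebraMap A B t' * y) := by
        rw [map_mul]; ring
      rw [this]
      exact add_mem (Ideal.mul_mem_left _ _ hta) (Ideal.mul_mem_left _ _ hta')
    | smul c x _ hx =>
      obtain ⟨t, ht, hta⟩ := hx
      refine ⟨t, ht, ?_⟩
      rw [smul_eq_mul, mul_left_comm]
      exact Ideal.mul_mem_left _ _ hta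
  obtain ⟨t, ht, htz⟩ := key _ hw
  refine ⟨t, ht, Ideal.map_mono hle ((isRadical_map_cond h.inj hsn) ⟨n + 1, ?_⟩)⟩
  have : (algebraMap A B t * w) ^ (n + 1) =
    (algebraMap A B t ^ n * w) * (algebraMap A B t * w ^ n) := by ring
  rw [this]
  exact Ideal.mul_mem_left _ _ htz

theorem exists_smul_mem_map' [Module.Finite A B] [IsReduced B] (h : Bir A B)
    (hA : ringKrullDim A ≤ 1) (hsn : HTop.IsSeminormalRing A) {p : Ideal A} [hp : p.IsPrime]
    {w : B} {n : ℕ} (hw : w ^ n ∈ p.map (algebraMap A B)) :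
    ∃ t ∉ p, algebraMap A B t * w ∈ p.map (algebraMap A B) := by
  by_cases hle : cond A B ≤ p
  · exact exists_smul_mem_map h hA hsn hle hw
  · obtain ⟨s, hs, hsp⟩ := SetLike.not_le_iff_exists.1 hle
    obtain ⟨a, ha⟩ := hs w
    have hker : (⊥ : Ideal B).comap (algebraMap A B) ≤ p := by
      rw [← RingHom.ker_eq_comap_bot, (RingHom.injective_iff_ker_eq_bot _).1 h.inj]
      exact bot_le
    obtain ⟨q, -, hq, hqp⟩ := Ideal.exists_ideal_over_prime_of_isIntegral p (⊥ : Ideal B) hker
    have hpq : p.map (algebraMap A B) ≤ q := Ideal.map_le_iff_le_comap.2 hqp.ge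
    have h1 : algebraMap A B (a ^ n) ∈ q := by
      rw [map_pow, ha, mul_pow]
      exact q.mul_mem_left _ (hpq hw)
    have h2 : a ^ n ∈ p := hqp ▸ h1
    refine ⟨s, hsp, ?_⟩
    rw [← ha]
    exact Ideal.mem_map_of_mem _ (hp.mem_of_pow_mem n h2)

end K577.SemiRing
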