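import Groth.Agent.Curves.K577.BirSch
import Groth.Agent.Curves.K577.FibRed
import Groth.Agent.Dual.H347.FibChart
import Groth.Agent.Pinch.K838.FerrBC
import Mathlib.AlgebraicGeometry.Morphisms.Finite
import Mathlib.AlgebraicGeometry.ResidueField

/-!
# The conductor square of a seminormal curve
-/

set_option autoImplicit false
universe u

open CategoryTheory CategoryTheory.Limits AlgebraicGeometry TopologicalSpace TensorProduct

namespace K577.SnSquare

open K577.SemiRing K577.BirSch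

theorem fromSpec_primeIdealOf' {X : Scheme.{u}} {U : X.Opens} (hU : IsAffineOpen U)
    (p : PrimeSpectrum Γ(X, U)) (h : hU.fromSpec p ∈ U) :
    hU.primeIdealOf ⟨hU.fromSpec p, h⟩ = p := by
  apply hU.fromSpec.isOpenEmbedding.injective
  exact hU.fromSpec_primeIdealOf ⟨_, h⟩

theorem fromSpec_mem {X : Scheme.{u}} {U : X.Opens} (hU : IsAffineOpen U)
    (p : Spec Γ(X, U)) : hU.fromSpec p ∈ U := by
  have : hU.fromSpec p ∈ (U : Set X) := by
    rw [← hU.range_fromSpec]
    exact ⟨p, rfl⟩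
  exact this

/-- The local rings of the sections over an affine open. -/
theorem exists_stalk_equiv {X : Scheme.{u}} {U : X.Opens} (hU : IsAffineOpen U)
    (p : Ideal Γ(X, U)) [hp : p.IsPrime] :
    Nonempty (Localization.AtPrime p ≃+* X.presheaf.stalk (hU.fromSpec ⟨p, hp⟩)) := by
  have hm := fromSpec_mem hU ⟨p, hp⟩
  have h1 := hU.isLocalization_stalk ⟨hU.fromSpec ⟨p, hp⟩, hm⟩
  rw [fromSpec_primeIdealOf' hU ⟨p, hp⟩ hm] at h1
  let _ := TopCat.Presheaf.algebra_section_stalk X.presheaf ⟨hU.fromSpec ⟨p, hp⟩, hm⟩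
  exact ⟨(IsLocalization.algEquiv p.primeCompl (Localization.AtPrime p)
    (X.presheaf.stalk (hU.fromSpec ⟨p, hp⟩))).toRingEquiv⟩

section residue

variable {X : Scheme.{u}} {U : X.Opens} (hU : IsAffineOpen U) (x : X) (hx : x ∈ U)

include hU in
theorem residue_surj (k : X.residueField x) : ∃ s a : Γ(X, U),
    (X.presheaf.germ U x hx ≫ X.residue x) s ≠ 0 ∧
    (X.presheaf.germ U x hx ≫ X.residue x) s * k = (X.presheaf.germ U x hx ≫ X.residue x) a := by
  obtain ⟨z, rfl⟩ := X.residue_surjective x k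
  have h1 := hU.isLocalization_stalk ⟨x, hx⟩
  let _ := TopCat.Presheaf.algebra_section_stalk X.presheaf ⟨x, hx⟩
  obtain ⟨⟨a, s⟩, hs⟩ := IsLocalization.surj (hU.primeIdealOf ⟨x, hx⟩).asIdeal.primeCompl z
  refine ⟨s, a, ?_, ?_⟩
  · have h2 := IsLocalization.map_units (X.presheaf.stalk x) s
    exact (h2.map (X.residue x).hom).ne_zero
  · have h3 : z * X.presheaf.germ U x hx s = X.presheaf.germ U x hx a := hs
    change X.residue x (X.presheaf.germ U x hx s) * X.residue x z =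
      X.residue x (X.presheaf.germ U x hx a)
    rw [← h3, map_mul, mul_comm]

theorem fromSpecResidueField_eq : Spec.map (X.presheaf.germ U x hx ≫ X.residue x) ≫ hU.fromSpec =
    X.fromSpecResidueField x := by
  rw [Spec.map_comp, Category.assoc]
  have := hU.fromSpecStalk_eq_fromSpecStalk hx
  rw [IsAffineOpen.fromSpecStalk] at this
  rw [this]
  rfl

end residue

theorem isReduced_fiber_aux {X Y : Scheme.{u}} (f : X ⟶ Y) (y : Y) {R A k : Type u} [CommRing R]
    [CommRing A] [Field k] [Algebra R A] [Algebra R k]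
    (jU : Spec (CommRingCat.of A) ⟶ X) [IsOpenImmersion jU]
    (jV : Spec (CommRingCat.of R) ⟶ Y) [IsOpenImmersion jV]
    (w : jU ≫ f = Spec.map (CommRingCat.ofHom (algebraMap R A)) ≫ jV)
    (e : Spec (CommRingCat.of k) ≅ Spec (Y.residueField y))
    (hk : Spec.map (CommRingCat.ofHom (algebraMap R k)) ≫ jV =
      e.hom ≫ Y.fromSpecResidueField y)
    (hK : ∀ c : k, ∃ s a : R, algebraMap R k s ≠ 0 ∧ algebraMap R k s * c = algebraMap R k a)
    (H : ∀ (p : Ideal R) [p.IsPrime] (w : A) (n : ℕ), w ^ n ∈ p.map (algebraMap R A) →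
        ∃ t ∉ p, algebraMap R A t * w ∈ p.map (algebraMap R A))
    (hr : ∀ z : X, f z = y → z ∈ Set.range jU) : IsReduced (f.fiber y) := by
  obtain ⟨j, hj, hj1, hj2⟩ := Groth.Agent.Dual.H347.FibChart.exists_chart f y jU jV w e hk
  have hred : _root_.IsReduced (k ⊗[R] A) := by
    refine FibRed.isReduced_tensor hK fun w n hw => ?_
    have hpr : (RingHom.ker (algebraMap R k)).IsPrime := RingHom.ker_isPrime _
    obtain ⟨t, ht, h⟩ := H _ w n hw
    exact ⟨t, ht, h⟩
  have hsurj : Surjective j := by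
    refine ⟨fun z => hj2 z (hr _ ?_)⟩
    have : f.fiberι y z ∈ Set.range (f.fiberι y) := ⟨z, rfl⟩
    rw [Scheme.Hom.range_fiberι] at this
    exact this
  have hepi : Epi j.base := (TopCat.epi_iff_surjective _).2 hsurj.surj
  have hiso : IsIso j := IsOpenImmersion.isIso j
  have : IsReduced (Spec (CommRingCat.of (k ⊗[R] A))) := inferInstance
  exact isReduced_of_isOpenImmersion (inv j)

/-- Reducedness of the fibres of an affine morphism. -/
theorem isReduced_fiber {X Y : Scheme.{u}} (ν : Y ⟶ X) [IsAffineHom ν] {U : X.Opens}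
    (hU : IsAffineOpen U) (x : X) (hx : x ∈ U)
    (H : letI := (ν.app U).hom.toAlgebra
      ∀ (p : Ideal Γ(X, U)) [p.IsPrime] (w : Γ(Y, ν ⁻¹ᵁ U)) (n : ℕ),
        w ^ n ∈ p.map (algebraMap Γ(X, U) Γ(Y, ν ⁻¹ᵁ U)) →
        ∃ t ∉ p, algebraMap Γ(X, U) Γ(Y, ν ⁻¹ᵁ U) t * w ∈ p.map (algebraMap Γ(X, U) Γ(Y, ν ⁻¹ᵁ U))) :
    IsReduced (ν.fiber x) := by
  let i1 : Algebra Γ(X, U) Γ(Y, ν ⁻¹ᵁ U) := (ν.app U).hom.toAlgebra
  let i2 : Algebra Γ(X, U) (X.residueField x) :=
    (X.presheaf.germ U x hx ≫ X.residue x).hom.toAlgebra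
  refine @isReduced_fiber_aux Y X ν x Γ(X, U) Γ(Y, ν ⁻¹ᵁ U) (X.residueField x) _ _ _ i1 i2
    (hU.preimage ν).fromSpec _ hU.fromSpec _
    ?_ (Iso.refl _) ?_ (residue_surj hU x hx) H ?_
  · rw [← IsAffineOpen.SpecMap_appLE_fromSpec ν hU (hU.preimage ν) le_rfl,
        ← Scheme.Hom.app_eq_appLE]
    rfl
  · have := fromSpecResidueField_eq hU x hx
    rw [Iso.refl_hom]
    erw [Category.id_comp]
    exact this
  · intro z hz
    rw [(hU.preimage ν).range_fromSpec]
    change ν z ∈ U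
    rw [hz]
    exact hx


section ker

theorem ker_of_isPushout {A A' B P : CommRingCat.{u}} {f : A ⟶ A'} {g : A ⟶ B} {inl : A' ⟶ P}
    {inr : B ⟶ P} (h : IsPushout f g inl inr) (hf : Function.Surjective f) {b : B}
    (hb : inr b = 0) : b ∈ (RingHom.ker f.hom).map g.hom := by
  let Q := B ⧸ (RingHom.ker f.hom).map g.hom
  let β : B ⟶ CommRingCat.of Q := CommRingCat.ofHom (Ideal.Quotient.mk _)
  have hle : RingHom.ker f.hom ≤ RingHom.ker ((Ideal.Quotient.mk
      ((RingHom.ker f.hom).map g.hom)).comp g.hom) := by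
    intro a ha
    rw [RingHom.mem_ker, RingHom.comp_apply, Ideal.Quotient.eq_zero_iff_mem]
    exact Ideal.mem_map_of_mem _ ha
  let α : A' ⟶ CommRingCat.of Q := CommRingCat.ofHom
    (RingHom.liftOfSurjective f.hom hf ⟨(Ideal.Quotient.mk _).comp g.hom, hle⟩)
  have hαβ : f ≫ α = g ≫ β := by
    ext a
    exact RingHom.liftOfRightInverse_comp_apply f.hom _ (Function.rightInverse_surjInv hf)
      ⟨(Ideal.Quotient.mk ((RingHom.ker f.hom).map g.hom)).comp g.hom, hle⟩ a
  have h1 : h.desc α β hαβ (inr b) = β b := by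
    rw [← CommRingCat.comp_apply, h.inr_desc]
  rw [hb, map_zero] at h1
  exact Ideal.Quotient.eq_zero_iff_mem.1 h1.symm

end ker

section closed

variable {X Y D : Scheme.{u}} (ν : Y ⟶ X) [IsAffineHom ν] (d : D ⟶ X) [IsClosedImmersion d]
  {U : X.Opens} (hU : IsAffineOpen U)

include hU in
/-- Square criterion. -/
theorem secSq (hinj : Function.Injective (ν.app U))
    (hcond : letI := (ν.app U).hom.toAlgebra
      RingHom.ker (d.app U).hom = cond Γ(X, U) Γ(Y, ν ⁻¹ᵁ U)) :
    K838.Ferr.SecSq (pullback.fst ν d) (pullback.snd ν d) ν d U := by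
  have w := pullback.condition (f := ν) (g := d)
  rw [K838.Ferr.secSq_iff w]
  have hle := (K838.Ferr.preimage_eq w U).le
  refine ⟨fun s t hst => ?_, fun r r' h1 _ => hinj h1⟩
  obtain ⟨r, hr⟩ := d.app_surjective U hU t
  have hpo := K838.FerrBC.isPushout_sections (IsPullback.of_hasPullback ν d) (US := U)
    (UT := d ⁻¹ᵁ U) (UX := ν ⁻¹ᵁ U) (UY := pullback.fst ν d ⁻¹ᵁ ν ⁻¹ᵁ U) le_rfl le_rfl
    (by rw [← K838.Ferr.preimage_eq w U, inf_idem]) hU (hU.preimage d) (hU.preimage ν) le_rfl hle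
  have hw := K838.Ferr.sec_w w U hle
  have h1 : (pullback.fst ν d).appLE (ν ⁻¹ᵁ U) (pullback.fst ν d ⁻¹ᵁ ν ⁻¹ᵁ U) le_rfl
      (s - ν.app U r) = 0 := by
    rw [← Scheme.Hom.app_eq_appLE, map_sub, hst, ← hr, sub_eq_zero]
    exact (congrArg (fun f => f r) hw).symm
  have hsurj : Function.Surjective (d.appLE U (d ⁻¹ᵁ U) le_rfl) := by
    rw [← Scheme.Hom.app_eq_appLE]
    exact d.app_surjective U hU
  have h2 := ker_of_isPushout hpo hsurj h1
  rw [← Scheme.Hom.app_eq_appLE, ← Scheme.Hom.app_eq_appLE, hcond] at h2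
  obtain ⟨a, ha, hab⟩ := @exists_of_mem_map_cond _ _ _ _ (ν.app U).hom.toAlgebra _ h2
  refine ⟨a + r, ?_, ?_⟩
  · rw [map_add]
    exact (congrArg (· + ν.app U r) hab).trans (sub_add_cancel _ _)
  · rw [map_add, hr]
    have : d.app U a = 0 := by
      rw [← hcond] at ha
      exact ha
    rw [this, zero_add]

theorem fromSpec_apply_of_ker_le {Z : Scheme.{u}} (d : Z ⟶ X) [IsClosedImmersion d]
    {U : X.Opens} (hU : IsAffineOpen U) (p : PrimeSpectrum Γ(X, U)) :
    RingHom.ker (d.app U).hom ≤ p.asIdeal ↔ hU.fromSpec p ∈ Set.range d := by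
  have hs : Function.Surjective (d.app U).hom := d.app_surjective U hU
  constructor
  · intro h
    have h1 : p ∈ Set.range (PrimeSpectrum.comap (d.app U).hom) := by
      rw [range_comap_of_surjective _ _ hs]
      exact h
    obtain ⟨q, rfl⟩ := h1
    exact ⟨(hU.preimage d).fromSpec q, fromSpec_apply d hU q⟩
  · rintro ⟨z, hz⟩
    have hzU : z ∈ d ⁻¹ᵁ U := by
      change d z ∈ U
      rw [hz]
      exact fromSpec_mem hU p
    have h1 := (hU.preimage d).fromSpec_primeIdealOf ⟨z, hzU⟩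
    have h2 := fromSpec_apply d hU ((hU.preimage d).primeIdealOf ⟨z, hzU⟩)
    rw [h1, hz] at h2
    have h3 := hU.fromSpec.isOpenEmbedding.injective h2
    rw [h3]
    intro a ha
    have h4 : (d.app U).hom a ∈ ((hU.preimage d).primeIdealOf ⟨z, hzU⟩).asIdeal := by
      rw [(RingHom.mem_ker).1 ha]
      exact Ideal.zero_mem _
    exact h4

end closed

end K577.SnSquare
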