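import Groth.Agent.Curves.K577.BirSch
import Groth.Agent.Curves.K577.SnSquare
import Groth.Agent.Curves.K577.FinNag
import Groth.Agent.FlatA.FiniteExtend
import Mathlib.AlgebraicGeometry.ResidueField

/-!
# The isomorphism locus of a finite birational morphism of curves
-/

set_option autoImplicit false
universe u

open CategoryTheory CategoryTheory.Limits AlgebraicGeometry TopologicalSpace

namespace K577.SnFin

open K577.SemiRing K577.BirSch K344.AwnBij

section ring

variable {A B : Type u} [CommRing A] [CommRing B] [Algebra A B]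

theorem gen_of_inj [_root_.IsReduced B]
    (hspec : Function.Bijective (PrimeSpectrum.comap (algebraMap A B)))
    (h : ∀ (q : Ideal B) [q.IsPrime] (b : B), ∃ t a : A, algebraMap A B t ∉ q ∧
      algebraMap A B t * b - algebraMap A B a ∈ q) (p : Ideal A) (hp : p ∈ minimalPrimes A)
    (b : B) : ∃ t ∉ p, ∃ a : A, algebraMap A B t * b = algebraMap A B a := by
  have hpp : p.IsPrime := hp.1.1
  obtain ⟨⟨q, hq⟩, hqp⟩ := hspec.2 ⟨p, hpp⟩
  have hqp' : q.comap (algebraMap A B) = p := congrArg PrimeSpectrum.asIdeal hqp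
  obtain ⟨t, a, ht, hta⟩ := h q b
  have htp : t ∉ p := fun hcon => ht (by
    rw [← hqp'] at hcon
    exact hcon)
  let w : B := algebraMap A B t * b - algebraMap A B a
  obtain ⟨v, hv, hvx⟩ : ∃ v ∉ p, algebraMap A B v * w = 0 := by
    by_contra hcon
    push Not at hcon
    let S : Submonoid B := (p.primeCompl.map (algebraMap A B)) ⊔ Submonoid.powers w
    have hS : Disjoint ((⊥ : Ideal B) : Set B) (S : Set B) := by
      rw [Set.disjoint_left]
      rintro y hy hyS
      obtain ⟨_, ⟨v, hv, rfl⟩, _, ⟨n, rfl⟩, hvn⟩ := Submonoid.mem_sup.1 hyS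
      rw [Ideal.mem_bot.1 hy] at hvn
      have h6 : (algebraMap A B v * w) ^ (n + 1) = 0 := by
        have : (algebraMap A B v * w) ^ (n + 1) =
          (algebraMap A B v * w ^ n) * (algebraMap A B v ^ n * w) := by
          rw [mul_pow, pow_succ, pow_succ]; ac_rfl
        rw [this]
        erw [hvn]
        rw [zero_mul]
      exact hcon v hv (pow_eq_zero_iff (Nat.succ_ne_zero n) |>.1 h6)
    obtain ⟨q', hq', -, hdis⟩ := Ideal.exists_le_prime_disjoint ⊥ S hS
    have hqp2 : q'.comap (algebraMap A B) ≤ p := by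
      intro y hy
      by_contra hyp
      exact Set.disjoint_left.1 hdis hy
        ((le_sup_left : p.primeCompl.map (algebraMap A B) ≤ S) ⟨y, hyp, rfl⟩)
    have hqp3 : q'.comap (algebraMap A B) = p :=
      le_antisymm hqp2 (hp.2 ⟨inferInstance, bot_le⟩ hqp2)
    have hqq' : (⟨q', hq'⟩ : PrimeSpectrum B) = ⟨q, hq⟩ := hspec.1 (by
      rw [hqp]
      exact PrimeSpectrum.ext hqp3)
    have hqq2 : q' = q := congrArg PrimeSpectrum.asIdeal hqq'
    have hwq : w ∈ q' := by
      rw [hqq2]
      exact hta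
    exact Set.disjoint_left.1 hdis hwq
      ((le_sup_right : Submonoid.powers w ≤ S) (Submonoid.mem_powers w))
  refine ⟨v * t, fun hcon => (hpp.mem_or_mem hcon).elim hv htp, v * a, ?_⟩
  rw [map_mul, map_mul]
  have : algebraMap A B v * (algebraMap A B t * b - algebraMap A B a) = 0 := hvx
  linear_combination this

theorem finite_cond [Module.Finite A B] [IsNoetherianRing A] (hA : ringKrullDim A ≤ 1)
    (hgen : ∀ p ∈ minimalPrimes A, ∀ b : B, ∃ t ∉ p, ∃ a : A,
      algebraMap A B t * b = algebraMap A B a) :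
    {p : PrimeSpectrum A | cond A B ≤ p.asIdeal}.Finite := by
  have hfin := Ideal.finite_minimalPrimes_of_isNoetherianRing A (cond A B)
  refine Set.Finite.of_finite_image (f := PrimeSpectrum.asIdeal) (hfin.subset ?_)
    (fun x _ y _ hxy => PrimeSpectrum.ext hxy)
  rintro _ ⟨p, hp, rfl⟩
  refine ⟨⟨p.2, hp⟩, ?_⟩
  rintro q ⟨hq, hcq⟩ hqp
  have : Ring.KrullDimLE 1 A := Ring.krullDimLE_iff.mpr hA
  rcases (Ring.krullDimLE_one_iff.mp this) q hq with h1 | h1
  · obtain ⟨s, hs, hsp⟩ := exists_mem_cond q (hgen q h1)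
    exact absurd (hcq hs) hsp
  · exact (h1.eq_of_le p.2.ne_top hqp).ge

theorem locIso_of_mem_cond (hinj : Function.Injective (algebraMap A B)) {s : A}
    (hs : s ∈ cond A B) : LocIso A B s where
  surj b := by
    obtain ⟨a, ha⟩ := hs b
    exact ⟨1, a, by rw [pow_one, ha]⟩
  inj a ha := ⟨0, by rw [hinj (ha.trans (map_zero _).symm), mul_zero]⟩

end ring

theorem bijective_app {X Y : Scheme.{u}} (ν : Y ⟶ X) [IsAffineHom ν] {U : X.Opens}
    (hU : IsAffineOpen U) (t : Γ(X, U))
    (h : letI := (ν.app U).hom.toAlgebra; LocIso Γ(X, U) Γ(Y, ν ⁻¹ᵁ U) t) :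
    Function.Bijective (ν.app (X.basicOpen t)) := by
  let _ := (ν.app U).hom.toAlgebra
  have hle : X.basicOpen t ≤ U := X.basicOpen_le t
  have hle' : ν ⁻¹ᵁ X.basicOpen t ≤ ν ⁻¹ᵁ U := fun x hx => hle hx
  have key1 := hU.isLocalization_basicOpen t
  have key3 := (hU.preimage ν).isLocalization_basicOpen (ν.app U t)
  have h4 : Y.basicOpen (ν.app U t) = ν ⁻¹ᵁ X.basicOpen t := (basicOpen_app ν U t).symm
  have key2 : ∀ b : Γ(Y, ν ⁻¹ᵁ U), Y.presheaf.map (homOfLE hle').op b = 0 →
      ∃ n : ℕ, (ν.app U t) ^ n * b = 0 := by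
    intro b hb
    have h5 : Y.presheaf.map (homOfLE (Y.basicOpen_le (ν.app U t))).op b = 0 := by
      have : (homOfLE (Y.basicOpen_le (ν.app U t))).op = (homOfLE hle').op ≫ (homOfLE h4.le).op := rfl
      rw [this, Y.presheaf.map_comp]
      change Y.presheaf.map (homOfLE h4.le).op (Y.presheaf.map (homOfLE hle').op b) = 0
      rw [hb, map_zero]
    obtain ⟨⟨_, n, rfl⟩, hn⟩ := (IsLocalization.map_eq_zero_iff
      (Submonoid.powers (ν.app U t)) Γ(Y, Y.basicOpen (ν.app U t)) b).1 h5
    exact ⟨n, hn⟩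
  have hnat : ∀ a : Γ(X, U), Y.presheaf.map (homOfLE hle').op (ν.app U a) =
      ν.app (X.basicOpen t) (X.presheaf.map (homOfLE hle).op a) := by
    intro a
    have := ν.naturality (homOfLE hle).op
    exact (congrArg (fun f => f a) this).symm
  have hunit : IsUnit (X.presheaf.map (homOfLE hle).op t) :=
    IsLocalization.map_units (M := Submonoid.powers t) Γ(X, X.basicOpen t)
      (⟨t, Submonoid.mem_powers t⟩ : Submonoid.powers t)
  constructor
  · rw [injective_iff_map_eq_zero]
    intro x hx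
    obtain ⟨⟨a, ⟨_, n, rfl⟩⟩, hn⟩ := IsLocalization.surj (Submonoid.powers t) x
    have hn' : x * X.presheaf.map (homOfLE hle).op (t ^ n) = X.presheaf.map (homOfLE hle).op a := hn
    have h6 : Y.presheaf.map (homOfLE hle').op (ν.app U a) = 0 := by
      rw [hnat, ← hn', map_mul, hx, zero_mul]
    obtain ⟨m, hm⟩ := key2 _ h6
    have h7 : ν.app U (t ^ m * a) = 0 := by
      rw [map_mul, map_pow, hm]
    obtain ⟨k, hk⟩ := h.inj _ h7
    have h8 : X.presheaf.map (homOfLE hle).op t ^ (k + m) * X.presheaf.map (homOfLE hle).op a = 0 := by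
      rw [← map_pow, ← map_mul, pow_add, mul_assoc, hk, map_zero]
    rw [← hn', map_pow, mul_comm x, ← mul_assoc, ← pow_add] at h8
    exact ((hunit.pow _).mul_right_eq_zero).1 h8
  · intro y
    have hy : ∃ (n : ℕ) (b : Γ(Y, ν ⁻¹ᵁ U)),
        y * Y.presheaf.map (homOfLE hle').op (ν.app U t ^ n) =
          Y.presheaf.map (homOfLE hle').op b := by
      obtain ⟨⟨b, ⟨_, n, rfl⟩⟩, hn⟩ := IsLocalization.surj (Submonoid.powers (ν.app U t))
        (Y.presheaf.map (homOfLE h4.le).op y)
      have hn' : Y.presheaf.map (homOfLE h4.le).op y *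
        Y.presheaf.map (homOfLE (Y.basicOpen_le (ν.app U t))).op (ν.app U t ^ n) =
          Y.presheaf.map (homOfLE (Y.basicOpen_le (ν.app U t))).op b := hn
      refine ⟨n, b, ?_⟩
      have hb : Function.Injective (Y.presheaf.map (homOfLE h4.le).op) := by
        have : (homOfLE h4.le).op = (eqToHom h4).op := rfl
        rw [this]
        exact (ConcreteCategory.bijective_of_isIso _).1
      have hcomp : ∀ b, Y.presheaf.map (homOfLE h4.le).op (Y.presheaf.map (homOfLE hle').op b) =
          Y.presheaf.map (homOfLE (Y.basicOpen_le (ν.app U t))).op b := by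
        intro b
        have : (homOfLE (Y.basicOpen_le (ν.app U t))).op =
          (homOfLE hle').op ≫ (homOfLE h4.le).op := rfl
        rw [this, Y.presheaf.map_comp]
        rfl
      apply hb
      rw [map_mul, hcomp, hcomp]
      exact hn'
    obtain ⟨n, b, hb⟩ := hy
    obtain ⟨m, a, hma⟩ := h.surj b
    have hma' : ν.app U t ^ m * b = ν.app U a := hma
    have h9 : y * ν.app (X.basicOpen t) (X.presheaf.map (homOfLE hle).op t ^ (m + n)) =
        ν.app (X.basicOpen t) (X.presheaf.map (homOfLE hle).op a) := by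
      rw [← hnat, ← hma', map_mul, ← hb, ← map_pow (X.presheaf.map (homOfLE hle).op).hom, ← hnat,
        map_pow, map_pow, map_pow, map_pow]
      ring
    obtain ⟨u, hu⟩ := (hunit.pow (m + n))
    refine ⟨X.presheaf.map (homOfLE hle).op a * ((u⁻¹ : (Γ(X, X.basicOpen t))ˣ) :
      Γ(X, X.basicOpen t)), ?_⟩
    rw [map_mul, ← h9, mul_assoc, ← map_mul, ← hu, Units.mul_inv, map_one, mul_one]

end K577.SnFin
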