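import Groth.Agent.Curves.K577.SnFin
import Groth.Agent.Curves.K577.DimComp
import Groth.Agent.HTop.K348.RFI
import Groth.Agent.S0566
import Mathlib.AlgebraicGeometry.Morphisms.Integral
import Mathlib.AlgebraicGeometry.Morphisms.SchemeTheoreticallyDominant

/-!
# Finiteness and isomorphism locus of a seminormalization of a curve
-/

set_option autoImplicit false
universe u

open CategoryTheory CategoryTheory.Limits AlgebraicGeometry TopologicalSpace

namespace K577.SnLocus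

open K577.SemiRing K577.BirSch K577.SnFin K577.SnSquare

section

variable {X Y : Scheme.{u}} (ν : Y ⟶ X) [IsAffineHom ν] {U : X.Opens} (hU : IsAffineOpen U)

theorem mem_iff_evaluation {U : X.Opens} (hU : IsAffineOpen U) (q : PrimeSpectrum Γ(X, U))
    (hy : hU.fromSpec q ∈ U) (f : Γ(X, U)) :
    X.evaluation U (hU.fromSpec q) hy f = 0 ↔ f ∈ q.asIdeal := by
  rw [Scheme.evaluation_eq_zero_iff_notMem_basicOpen]
  have h1 : hU.fromSpec q ∈ X.basicOpen f ↔ q ∈ hU.fromSpec ⁻¹ᵁ X.basicOpen f := Iff.rfl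
  rw [h1, hU.fromSpec_preimage_basicOpen]
  exact not_not (a := f ∈ q.asIdeal)

include hU in
theorem residue_cond (hres : HTop.ResidueFieldsIso ν) (q : Ideal Γ(Y, ν ⁻¹ᵁ U)) [hq : q.IsPrime]
    (b : Γ(Y, ν ⁻¹ᵁ U)) : ∃ t a : Γ(X, U), ν.app U t ∉ q ∧ ν.app U t * b - ν.app U a ∈ q := by
  have hy : ν ((hU.preimage ν).fromSpec ⟨q, hq⟩) ∈ U := fromSpec_mem (hU.preimage ν) ⟨q, hq⟩
  set y := (hU.preimage ν).fromSpec ⟨q, hq⟩ with hydef
  have h1 : Function.Bijective (ν.residueFieldMap y) := by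
    have := hres y
    exact (ConcreteCategory.isIso_iff_bijective _).1 this
  obtain ⟨c, hc⟩ := h1.2 (Y.evaluation (ν ⁻¹ᵁ U) y hy b)
  obtain ⟨s, a, hs, hsa⟩ := residue_surj hU (ν y) hy c
  have hs' : X.evaluation U (ν y) hy s ≠ 0 := hs
  have hsa' : X.evaluation U (ν y) hy s * c = X.evaluation U (ν y) hy a := hsa
  refine ⟨s, a, fun hcon => hs' (h1.1 ?_), ?_⟩
  · rw [map_zero, Scheme.evaluation_naturality_apply]
    exact (mem_iff_evaluation (hU.preimage ν) ⟨q, hq⟩ hy _).2 hcon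
  · refine (mem_iff_evaluation (hU.preimage ν) ⟨q, hq⟩ hy _).1 ?_
    rw [map_sub, map_mul, sub_eq_zero]
    have h2 := congrArg (ν.residueFieldMap y) hsa'
    rw [map_mul, hc, Scheme.evaluation_naturality_apply, Scheme.evaluation_naturality_apply] at h2
    exact h2

include hU in
theorem comap_bijective (hν : Function.Bijective ν) :
    Function.Bijective (PrimeSpectrum.comap (ν.app U).hom) := by
  constructor
  · intro q q' h
    apply (hU.preimage ν).fromSpec.isOpenEmbedding.injective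
    apply hν.1
    rw [fromSpec_apply ν hU q, fromSpec_apply ν hU q']
    exact congrArg hU.fromSpec h
  · intro p
    obtain ⟨y, hy⟩ := hν.2 (hU.fromSpec p)
    have hyU : y ∈ ν ⁻¹ᵁ U := by
      change ν y ∈ U
      rw [hy]
      exact fromSpec_mem hU p
    refine ⟨(hU.preimage ν).primeIdealOf ⟨y, hyU⟩, ?_⟩
    apply hU.fromSpec.isOpenEmbedding.injective
    have h1 := fromSpec_apply ν hU ((hU.preimage ν).primeIdealOf ⟨y, hyU⟩)
    rw [(hU.preimage ν).fromSpec_primeIdealOf ⟨y, hyU⟩, hy] at h1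
    exact h1.symm

end

theorem finite_minimalPrimes {A B : Type u} [CommRing A] [CommRing B] [Algebra A B]
    [IsNoetherianRing A] [Algebra.IsIntegral A B]
    (hspec : Function.Bijective (PrimeSpectrum.comap (algebraMap A B))) :
    (minimalPrimes B).Finite := by
  have hfin : (minimalPrimes A).Finite := minimalPrimes.finite_of_isNoetherianRing A
  refine Set.Finite.of_finite_image (f := fun q : Ideal B => q.comap (algebraMap A B))
    (hfin.subset ?_) ?_
  · rintro _ ⟨q, hq, rfl⟩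
    have hqp : q.IsPrime := hq.1.1
    refine ⟨⟨inferInstance, bot_le⟩, ?_⟩
    rintro p' ⟨hp', -⟩ hle
    obtain ⟨⟨q', hq'⟩, hqq'⟩ := hspec.2 ⟨p', hp'⟩
    have hqq2 : q'.comap (algebraMap A B) = p' := congrArg PrimeSpectrum.asIdeal hqq'
    obtain ⟨Q, hQ, hQp, hQc⟩ := Ideal.exists_ideal_over_prime_of_isIntegral
      (q.comap (algebraMap A B)) q' (hqq2.le.trans hle)
    have h1 : (⟨Q, hQp⟩ : PrimeSpectrum B) = ⟨q, hqp⟩ := hspec.1 (PrimeSpectrum.ext hQc)
    have h2 : Q = q := congrArg PrimeSpectrum.asIdeal h1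
    have h3 : q ≤ q' := hq.2 ⟨hq', bot_le⟩ (h2 ▸ hQ)
    rw [← hqq2]
    exact Ideal.comap_mono h3
  · intro q hq q' hq' h
    have h1 : (⟨q, hq.1.1⟩ : PrimeSpectrum B) = ⟨q', hq'.1.1⟩ := hspec.1 (PrimeSpectrum.ext h)
    exact congrArg PrimeSpectrum.asIdeal h1

/-- The isomorphism locus has finite complement. -/
theorem exists_isoLocus {X Y : Scheme.{u}} (ν : Y ⟶ X) [IsFinite ν] [IsLocallyNoetherian X]
    [CompactSpace X] (hinj : ∀ O, Function.Injective (ν.app O))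
    (hgen : ∀ U : X.Opens, IsAffineOpen U → ∀ p ∈ minimalPrimes Γ(X, U), ∀ b : Γ(Y, ν ⁻¹ᵁ U),
      ∃ t ∉ p, ∃ a : Γ(X, U), ν.app U t * b = ν.app U a)
    (hdim : ∀ U : X.Opens, IsAffineOpen U → ringKrullDim Γ(X, U) ≤ 1) :
    ∃ U : X.Opens, ((U : Set X)ᶜ).Finite ∧ IsIso (ν ∣_ U) := by
  let V : {O : X.Opens // IsIso (ν ∣_ O)} → X.Opens := fun O => O.1
  refine ⟨⨆ O, V O, ?_, Groth.Agent.FlatA.FiniteExtend.isIso_morphismRestrict_iSup ν V
    fun O => O.2⟩
  let 𝒰 := X.affineCover.finiteSubcover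
  let W : 𝒰.I₀ → X.Opens := fun k => (𝒰.f k).opensRange
  have hW : ∀ k, IsAffineOpen (W k) := fun k => isAffineOpen_opensRange (𝒰.f k)
  have hcov : ⨆ k, W k = ⊤ := 𝒰.iSup_opensRange
  let Z : 𝒰.I₀ → Set X := fun k =>
    letI := (ν.app (W k)).hom.toAlgebra
    (hW k).fromSpec '' {p | cond Γ(X, W k) Γ(Y, ν ⁻¹ᵁ (W k)) ≤ p.asIdeal}
  have hZ : ∀ k, (Z k).Finite := by
    intro k
    let _ := (ν.app (W k)).hom.toAlgebra
    have hN : IsNoetherianRing Γ(X, W k) := IsLocallyNoetherian.component_noetherian ⟨W k, hW k⟩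
    have hf : Module.Finite Γ(X, W k) Γ(Y, ν ⁻¹ᵁ W k) := ν.finite_app (W k) (hW k)
    exact (finite_cond (hdim _ (hW k)) (hgen _ (hW k))).image _
  refine (Set.finite_iUnion hZ).subset ?_
  intro x hx
  have hxW : x ∈ ⨆ k, W k := hcov ▸ trivial
  obtain ⟨k, hk⟩ := Opens.mem_iSup.1 hxW
  refine Set.mem_iUnion.2 ⟨k, (hW k).primeIdealOf ⟨x, hk⟩, ?_, (hW k).fromSpec_primeIdealOf ⟨x, hk⟩⟩
  let _ := (ν.app (W k)).hom.toAlgebra
  by_contra hcon
  have hcon' : ¬ cond Γ(X, W k) Γ(Y, ν ⁻¹ᵁ (W k)) ≤ ((hW k).primeIdealOf ⟨x, hk⟩).asIdeal := hcon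
  obtain ⟨s, hs, hsp⟩ := SetLike.not_le_iff_exists.1 hcon'
  have h1 : LocIso Γ(X, W k) Γ(Y, ν ⁻¹ᵁ W k) s := locIso_of_mem_cond (hinj (W k)) hs
  have h2 := bijective_app ν (hW k) s h1
  have h3 : IsIso (ν ∣_ X.basicOpen s) := by
    rw [isIso_morphismRestrict_iff_isIso_app ν ((hW k).basicOpen s),
      ConcreteCategory.isIso_iff_bijective]
    exact h2
  refine hx (Opens.mem_iSup.2 ⟨⟨X.basicOpen s, h3⟩, ?_⟩)
  have h4 : (hW k).primeIdealOf ⟨x, hk⟩ ∈ (hW k).fromSpec ⁻¹ᵁ X.basicOpen s := by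
    rw [(hW k).fromSpec_preimage_basicOpen]
    exact hsp
  have h5 : (hW k).fromSpec ((hW k).primeIdealOf ⟨x, hk⟩) ∈ X.basicOpen s := h4
  rw [(hW k).fromSpec_primeIdealOf ⟨x, hk⟩] at h5
  exact h5

/-- Fields are Nagata rings. -/
theorem isNagata_field (k : Type u) [Field k] : CAlg.IsNagata k := by
  refine ⟨inferInstance, ?_⟩
  intro p hp L _ _ _ _ hfin
  have hp' : p = ⊥ := by
    rcases Ideal.eq_bot_or_top p with h | h
    · exact h
    · exact absurd h hp.ne_top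
  have hmax : p.IsMaximal := by rw [hp']; exact Ideal.bot_isMaximal
  let : Field (k ⧸ p) := Ideal.Quotient.field p
  have hsurj : Function.Surjective (algebraMap (k ⧸ p) (FractionRing (k ⧸ p))) :=
    IsField.localization_map_bijective (M := nonZeroDivisors (k ⧸ p)) zero_notMem_nonZeroDivisors
      (Field.toIsField (k ⧸ p)) |>.2
  have h1 : Module.Finite (k ⧸ p) (FractionRing (k ⧸ p)) :=
    Module.Finite.of_surjective (Algebra.linearMap (k ⧸ p) (FractionRing (k ⧸ p))) hsurj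
  have h2 : Module.Finite (k ⧸ p) L := Module.Finite.trans (FractionRing (k ⧸ p)) L
  exact Module.Finite.of_injective (Subalgebra.val (integralClosure (k ⧸ p) L)).toLinearMap
    Subtype.val_injective

theorem isNagata {k : Type u} [Field k] {X : Scheme.{u}} (g : X ⟶ Spec (CommRingCat.of k))
    [LocallyOfFiniteType g] {U : X.Opens} (hU : IsAffineOpen U) : CAlg.IsNagata Γ(X, U) := by
  have hft : (g.appLE ⊤ U le_top).hom.FiniteType :=
    g.finiteType_appLE (isAffineOpen_top _) hU le_top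
  have hft2 : ((g.appLE ⊤ U le_top).hom.comp
      (Scheme.ΓSpecIso (CommRingCat.of k)).inv.hom).FiniteType :=
    hft.comp (RingHom.FiniteType.of_surjective _
      (Scheme.ΓSpecIso (CommRingCat.of k)).symm.commRingCatIsoToRingEquiv.surjective)
  let : Algebra k Γ(X, U) := ((g.appLE ⊤ U le_top).hom.comp
      (Scheme.ΓSpecIso (CommRingCat.of k)).inv.hom).toAlgebra
  have : Algebra.FiniteType k Γ(X, U) := hft2
  exact Groth.Agent.S0566.result k (isNagata_field k) Γ(X, U)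

end K577.SnLocus
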