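import Groth.Agent.Curves.K577.FerrStep
import Groth.Agent.Curves.K577.BirSch
import Groth.Agent.Curves.K577.Chain
import Groth.Agent.CycA.LocLen

/-!
# Measuring finite birational morphisms
-/

set_option autoImplicit false
universe u

open CategoryTheory CategoryTheory.Limits AlgebraicGeometry TopologicalSpace

namespace K577.StepMeas

open K577.BirSch K577.FerrStep K577.Chain

section ring

variable {A B B₁ : Type u} [CommRing A] [CommRing B] [CommRing B₁]

/-- The length of the cokernel of a ring homomorphism. -/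
noncomputable def len (g : A →+* B) : ℕ∞ :=
  letI := g.toAlgebra
  Module.length A (B ⧸ LinearMap.range (Algebra.linearMap A B))

theorem exists_linear (g : A →+* B₁) (h : B₁ →+* B) (hi : Function.Injective h) :
    letI := g.toAlgebra
    letI := (h.comp g).toAlgebra
    ∃ l : (B₁ ⧸ LinearMap.range (Algebra.linearMap A B₁)) →ₗ[A]
      (B ⧸ LinearMap.range (Algebra.linearMap A B)), Function.Injective l ∧
      (Function.Surjective l → Function.Surjective h) := by
  let _ := g.toAlgebra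
  let _ := (h.comp g).toAlgebra
  let h' : B₁ →ₗ[A] B :=
    { toFun := h
      map_add' := map_add h
      map_smul' := fun r x => by
        rw [Algebra.smul_def, Algebra.smul_def, map_mul]
        rfl }
  have hle : LinearMap.range (Algebra.linearMap A B₁) ≤
      (LinearMap.range (Algebra.linearMap A B)).comap h' := by
    rintro _ ⟨a, rfl⟩
    exact ⟨a, rfl⟩
  refine ⟨Submodule.mapQ _ _ h' hle, ?_, ?_⟩
  · rw [injective_iff_map_eq_zero]
    intro x hx
    obtain ⟨b, rfl⟩ := Submodule.mkQ_surjective _ x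
    rw [Submodule.mkQ_apply, Submodule.mapQ_apply, Submodule.Quotient.mk_eq_zero] at hx
    obtain ⟨a, ha⟩ := hx
    rw [Submodule.mkQ_apply, Submodule.Quotient.mk_eq_zero]
    exact ⟨a, hi ha⟩
  · intro hs b
    obtain ⟨x, hx⟩ := hs (Submodule.Quotient.mk b)
    obtain ⟨b₁, rfl⟩ := Submodule.mkQ_surjective _ x
    rw [Submodule.mkQ_apply, Submodule.mapQ_apply, Submodule.Quotient.eq] at hx
    obtain ⟨a, ha⟩ := hx
    refine ⟨b₁ - g a, ?_⟩
    rw [map_sub, sub_eq_iff_eq_add]
    have : h b₁ - b = h (g a) := ha.symm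
    rw [← this]
    ring

theorem len_le (g : A →+* B₁) (h : B₁ →+* B) (hi : Function.Injective h) :
    len g ≤ len (h.comp g) := by
  let _ := g.toAlgebra
  let _ := (h.comp g).toAlgebra
  obtain ⟨l, hl, -⟩ := exists_linear g h hi
  exact Module.length_le_of_injective l hl

theorem len_lt (g : A →+* B₁) (h : B₁ →+* B) (hi : Function.Injective h)
    (hs : ¬ Function.Surjective h) (htop : len (h.comp g) ≠ ⊤) : len g < len (h.comp g) := by
  let _ := g.toAlgebra
  let _ := (h.comp g).toAlgebra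
  obtain ⟨l, hl, hl'⟩ := exists_linear g h hi
  have hfl := Module.length_ne_top_iff.1 htop
  obtain ⟨h1, h2⟩ := isFiniteLength_iff_isNoetherian_isArtinian.1 hfl
  have h3 : LinearMap.range l ≠ ⊤ := fun h => hs (hl' (LinearMap.range_eq_top.1 h))
  have h4 := Submodule.length_lt h3
  rw [← (LinearEquiv.ofInjective l hl).length_eq] at h4
  exact h4

theorem len_ne_top [IsNoetherianRing A] (g : A →+* B) (hg : g.Finite)
    (H : ∀ p : PrimeSpectrum A, p.asIdeal.IsMaximal ∨ ∃ t ∉ p.asIdeal, ∀ b : B,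
      ∃ (n : ℕ) (a : A), g t ^ n * b = g a) : len g ≠ ⊤ := by
  let _ := g.toAlgebra
  have hfin : Module.Finite A B := hg
  refine Groth.Agent.CycA.LocLen.length_ne_top_of_support_subset inferInstance fun p hp => ?_
  refine (H p).resolve_right ?_
  rintro ⟨t, ht, hb⟩
  rw [Module.mem_support_iff'] at hp
  obtain ⟨m, hm⟩ := hp
  obtain ⟨b, rfl⟩ := Submodule.mkQ_surjective _ m
  obtain ⟨n, a, hna⟩ := hb b
  refine hm (t ^ n) (fun h => ht (p.2.mem_of_pow_mem n h)) ?_
  rw [Submodule.mkQ_apply, ← Submodule.Quotient.mk_smul, Submodule.Quotient.mk_eq_zero]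
  refine ⟨a, ?_⟩
  rw [Algebra.smul_def, map_pow]
  exact hna.symm

end ring

theorem pow_mul_mem {X Y : Scheme.{u}} (ν : Y ⟶ X) [IsAffineHom ν] {U : X.Opens}
    (hU : IsAffineOpen U) (t : Γ(X, U)) (hbij : Function.Bijective (ν.app (X.basicOpen t)))
    (b : Γ(Y, ν ⁻¹ᵁ U)) : ∃ (n : ℕ) (a : Γ(X, U)), ν.app U t ^ n * b = ν.app U a := by
  have hle : X.basicOpen t ≤ U := X.basicOpen_le t
  have hle' : ν ⁻¹ᵁ X.basicOpen t ≤ ν ⁻¹ᵁ U := fun x hx => hle hx
  have key1 := hU.isLocalization_basicOpen t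
  have key2 : ∀ b : Γ(Y, ν ⁻¹ᵁ U), Y.presheaf.map (homOfLE hle').op b = 0 →
      ∃ n : ℕ, (ν.app U t) ^ n * b = 0 := by
    intro b hb
    have h3 := (hU.preimage ν).isLocalization_basicOpen (ν.app U t)
    have h4 : Y.basicOpen (ν.app U t) = ν ⁻¹ᵁ X.basicOpen t := (basicOpen_app ν U t).symm
    have h5 : Y.presheaf.map (homOfLE (Y.basicOpen_le (ν.app U t))).op b = 0 := by
      have : (homOfLE (Y.basicOpen_le (ν.app U t))).op = (homOfLE hle').op ≫ (homOfLE h4.le).op := rfl
      rw [this, Y.presheaf.map_comp]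
      change Y.presheaf.map (homOfLE h4.le).op (Y.presheaf.map (homOfLE hle').op b) = 0
      rw [hb, map_zero]
    obtain ⟨⟨_, n, rfl⟩, hn⟩ := (IsLocalization.map_eq_zero_iff
      (Submonoid.powers (ν.app U t)) Γ(Y, Y.basicOpen (ν.app U t)) b).1 h5
    exact ⟨n, hn⟩
  have hnat : ∀ a : Γ(X, U), Y.presheaf.map (homOfLE hle').op (ν.app U a) =
      ν.app (X.basicOpen t) (X.presheaf.map (homOfLE hle).op a) := by
    intro a
    have := ν.naturality (homOfLE hle).op
    exact (congrArg (fun f => f a) this).symm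
  obtain ⟨c, hc⟩ := hbij.2 (Y.presheaf.map (homOfLE hle').op b)
  obtain ⟨⟨a, ⟨_, n, rfl⟩⟩, hn⟩ := IsLocalization.surj (Submonoid.powers t) c
  have hn' : c * X.presheaf.map (homOfLE hle).op (t ^ n) = X.presheaf.map (homOfLE hle).op a := hn
  have h6 : Y.presheaf.map (homOfLE hle').op (ν.app U t ^ n * b - ν.app U a) = 0 := by
    rw [map_sub, map_mul, ← hc, hnat, ← hn', map_mul, ← hnat, map_pow, map_pow, map_pow,
      mul_comm, sub_self]
  obtain ⟨m, hm⟩ := key2 _ h6
  refine ⟨m + n, t ^ m * a, ?_⟩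
  rw [mul_sub, sub_eq_zero, ← mul_assoc, ← pow_add] at hm
  rw [map_mul, map_pow]
  exact hm

theorem isClosed_singleton_of_finite {T : Type*} [TopologicalSpace T] [JacobsonSpace T] {Z : Set T}
    (hZ : IsClosed Z) (hfin : Z.Finite) {x : T} (hx : x ∈ Z) : IsClosed {x} := by
  have h1 : JacobsonSpace Z := .of_isClosedEmbedding hZ.isClosedEmbedding_subtypeVal
  have h2 : Finite Z := hfin
  have h3 : IsClosed ({⟨x, hx⟩} : Set Z) := isClosed_discrete _
  have h4 := hZ.isClosedEmbedding_subtypeVal.isClosedMap _ h3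
  rwa [Set.image_singleton] at h4

theorem len_app_ne_top {X X' : Scheme.{u}} [IsLocallyNoetherian X'] [JacobsonSpace X']
    (β : X ⟶ X') [IsFinite β] (U : X'.Opens) (hfin : ((U : Set X')ᶜ).Finite)
    (hiso : ∀ O : X'.Opens, IsAffineOpen O → O ≤ U → Function.Bijective (β.app O))
    {W : X'.Opens} (hW : IsAffineOpen W) : len (β.app W).hom ≠ ⊤ := by
  have hN : IsNoetherianRing Γ(X', W) := IsLocallyNoetherian.component_noetherian ⟨W, hW⟩
  refine len_ne_top _ (β.finite_app W hW) fun p => ?_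
  by_cases hp : hW.fromSpec p ∈ U
  · right
    obtain ⟨t, ht, htp⟩ := exists_basicOpen_le hW U p hp
    exact ⟨t, htp, fun b => pow_mul_mem β hW t (hiso _ (hW.basicOpen t) ht) b⟩
  · left
    have h1 : IsClosed {hW.fromSpec p} :=
      isClosed_singleton_of_finite U.2.isClosed_compl hfin hp
    have h2 : hW.fromSpec ⁻¹' {hW.fromSpec p} = {p} := by
      ext q
      exact ⟨fun h => hW.fromSpec.isOpenEmbedding.injective h, fun h => congrArg _ h⟩
    have h3 : IsClosed ({p} : Set (PrimeSpectrum Γ(X', W))) := by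
      have := h1.preimage hW.fromSpec.continuous
      rw [h2] at this
      exact this
    exact (PrimeSpectrum.isClosed_singleton_iff_isMaximal p).1 h3

theorem isIso_of_cover {X X' : Scheme.{u}} (β : X ⟶ X') [IsAffineHom β] {ι : Type*}
    (W : ι → X'.Opens) (hW : ∀ k, IsAffineOpen (W k)) (hcov : ⨆ k, W k = ⊤)
    (h : ∀ k, Function.Bijective (β.app (W k))) : IsIso β := by
  refine (IsZariskiLocalAtTarget.iff_of_iSup_eq_top (P := MorphismProperty.isomorphisms Scheme)
    W hcov).mpr fun k => ?_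
  change IsIso (β ∣_ W k)
  rw [isIso_morphismRestrict_iff_isIso_app β (hW k), ConcreteCategory.isIso_iff_bijective]
  exact h k

/-- Push-outs along prime algebras, at closed points. -/
def StepC : MorphismProperty Scheme.{u} := fun X Y f =>
  ∃ (x : Y) (_ : IsClosed {x}) (A : Type u) (_ : CommRing A) (_ : Algebra (Y.residueField x) A)
    (_ : IsSimpleOrder (Subalgebra (Y.residueField x) A))
    (j : Spec (CommRingCat.of A) ⟶ X), IsClosedImmersion j ∧
    IsPushout j (Spec.map (CommRingCat.ofHom (algebraMap (Y.residueField x) A))) f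
      (Y.fromSpecResidueField x) ∧
    IsPullback j (Spec.map (CommRingCat.ofHom (algebraMap (Y.residueField x) A))) f
      (Y.fromSpecResidueField x)

theorem exists_step {X X' : Scheme.{u}} [IsLocallyNoetherian X'] [JacobsonSpace X']
    (β : X ⟶ X') [IsFinite β] {W : X'.Opens} (hW : IsAffineOpen W)
    (hns : ¬ Function.Surjective (β.app W)) :
    ∃ (X₁ : Scheme.{u}) (a : X ⟶ X₁) (φ : X₁ ⟶ X'), a ≫ φ = β ∧ IsFinite φ ∧ StepC a ∧
      (∀ O, Function.Injective (a.app O)) ∧ ¬ Function.Surjective (a.app (φ ⁻¹ᵁ W)) := by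
  have hN : IsNoetherianRing Γ(X', W) := IsLocallyNoetherian.component_noetherian ⟨W, hW⟩
  obtain ⟨k, E, _, _, κ, π, f, h1, h2, h3, h4, h5, h6, h7⟩ :=
    ring_data (β.app W).hom (β.finite_app W hW) hns
  obtain ⟨X₁, a, φ, x, ψ, i, k1, k2, k3, k4, k5, k6, k7, k8, k9⟩ :=
    exists_step_aux β hW κ π f h1 h2 h3 h4 h5 h6
  refine ⟨X₁, a, φ, k2, k3, ?_, k8, k9⟩
  let _ : Algebra (X₁.residueField x) E := (ψ ≫ CommRingCat.ofHom κ).hom.toAlgebra
  have hs : IsSimpleOrder (Subalgebra (X₁.residueField x) E) := by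
    refine h7 _ ?_
    have hψ : Function.Surjective ψ.hom := ((ConcreteCategory.isIso_iff_bijective _).1 k1).2
    ext e
    constructor
    · rintro ⟨c, rfl⟩
      exact ⟨ψ.hom c, rfl⟩
    · rintro ⟨c, rfl⟩
      obtain ⟨c, rfl⟩ := hψ c
      exact ⟨c, rfl⟩
  exact ⟨x, k7, E, inferInstance, inferInstance, hs, i, k4, k5, k6⟩

theorem comp_of_len {X' : Scheme.{u}} [IsLocallyNoetherian X'] [JacobsonSpace X'] (U : X'.Opens)
    (hU : ((U : Set X')ᶜ).Finite) {ι : Type*} [Fintype ι] (W : ι → X'.Opens)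
    (hW : ∀ k, IsAffineOpen (W k)) (hcov : ⨆ k, W k = ⊤) (R : MorphismProperty Scheme.{u})
    (P : ∀ {X : Scheme.{u}}, (X ⟶ X') → Prop)
    (hP : ∀ {X X₁ : Scheme.{u}} (a : X ⟶ X₁) (φ : X₁ ⟶ X') [IsFinite φ] [IsFinite (a ≫ φ)],
      StepC a → (∀ O, Function.Injective (a.app O)) → (∀ O, Function.Injective (φ.app O)) →
      P (a ≫ φ) → R a ∧ P φ) (n : ℕ) :
    ∀ {X : Scheme.{u}} (β : X ⟶ X') [IsFinite β], (∀ O, Function.Injective (β.app O)) →
      (∀ O : X'.Opens, IsAffineOpen O → O ≤ U → Function.Bijective (β.app O)) → P β →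
      ∑ k, (len (β.app (W k)).hom).toNat = n → Comp R β := by
  induction n using Nat.strong_induction_on with
  | _ n ih =>
    intro X β _ hinj hiso hPβ hn
    by_cases hi : IsIso β
    · exact Comp.iso (asIso β)
    · obtain ⟨k, hk⟩ : ∃ k, ¬ Function.Surjective (β.app (W k)) := by
        by_contra hcon
        push Not at hcon
        exact hi (isIso_of_cover β W hW hcov fun k => ⟨hinj _, hcon k⟩)
      obtain ⟨X₁, a, φ, rfl, h2, h3, h4, h5⟩ := exists_step β (hW k) hk
      have happ : ∀ O : X'.Opens, ((a ≫ φ).app O).hom = (a.app (φ ⁻¹ᵁ O)).hom.comp (φ.app O).hom :=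
        fun O => by rw [Scheme.Hom.comp_app]; rfl
      have happ' : ∀ (O : X'.Opens) (x : Γ(X', O)), (a ≫ φ).app O x = a.app (φ ⁻¹ᵁ O) (φ.app O x) :=
        fun O x => by rw [Scheme.Hom.comp_app]; rfl
      have hφinj : ∀ O, Function.Injective (φ.app O) := fun O x y hxy => by
        apply hinj O
        rw [happ', happ', hxy]
      have hφiso : ∀ O : X'.Opens, IsAffineOpen O → O ≤ U → Function.Bijective (φ.app O) := by
        intro O hO hOU
        refine ⟨hφinj O, fun y => ?_⟩
        obtain ⟨z, hz⟩ := (hiso O hO hOU).2 (a.app (φ ⁻¹ᵁ O) y)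
        refine ⟨z, h4 _ ?_⟩
        rw [← hz, happ']
      obtain ⟨hR, hPφ⟩ := hP a φ h3 h4 hφinj hPβ
      refine Comp.cons a φ hR (ih _ ?_ φ hφinj hφiso hPφ rfl)
      rw [← hn]
      have hfin : ∀ l, len ((a ≫ φ).app (W l)).hom ≠ ⊤ := fun l =>
        len_app_ne_top (a ≫ φ) U hU hiso (hW l)
      have hle : ∀ l, len (φ.app (W l)).hom ≤ len ((a ≫ φ).app (W l)).hom := fun l => by
        rw [happ]
        exact len_le _ _ (h4 _)
      refine Finset.sum_lt_sum (fun l _ => ENat.toNat_le_toNat (hle l) (hfin l))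
        ⟨k, Finset.mem_univ _, ?_⟩
      have hlt : len (φ.app (W k)).hom < len ((a ≫ φ).app (W k)).hom := by
        have := hfin k
        rw [happ] at this ⊢
        exact len_lt _ _ (h4 _) h5 this
      rw [← ENat.natCast_toNat (hlt.trans_le le_top).ne, ← ENat.natCast_toNat (hfin k)] at hlt
      exact Nat.cast_lt.1 hlt

end K577.StepMeas
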